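import Cfsg.Agent.Fu.A1
import Cfsg.Agent.Fisch.Rc.R22
import Cfsg.Agent.StdZ.FiO
import Cfsg.Agent.StdZ.Fin

/-! The group generated by a base of `Fi22`. -/

set_option autoImplicit false
set_option maxRecDepth 100000

namespace CF.Fu

open Cfsg Subgroup CF.Comp CF.Fisch CF.Fisch.F22

noncomputable def bl : List ℕ := [1, 5, 9, 15, 59, 13, 61, 63, 65, 67]
noncomputable def gl : List ℕ := [69, 71, 73, 75, 77]
noncomputable def sp1 : List (List ℕ) := [[79], [80, 78, 79], [70, 27, 80], [76, 44, 79], [70, 80], [21, 49, 79],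
  [44, 79], [79, 79], [80, 80], [28, 80], [78, 79], [80], [77, 44, 79], [27, 80], [69, 80], [76, 80], [75, 80],
  [77, 80], [31, 49, 79], [71, 80], [71, 27, 80]]
noncomputable def gw (w : List ℕ) : List ℕ := lmap (nth 0 gl) w

theorem sp_pts : arePts NB bs w0 vB (lmap (wdA bl) syn) ([] :: sp1) = true := by decide +kernel
theorem sp_pws : pws NB ([] :: sp1) = vB := by decide +kernel
theorem wd_ne : allFrom (fun x => Bool.not (trivB NB bs (wdA bl x))) 1 1023 = true := by decide +kernel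
theorem gm_ok : ∀ i < 6, lall2 (fun l y => eqB NB bs [nth 0 gl i, l, linv (nth 0 gl i)] (wdA bl y)) bl
  (nth ID GM i) = true := by decide +kernel
theorem sq_ok : ∀ t ∈ [(3, [2, 0, 1, 0, 0], 200, 320), (6, [1, 0, 2, 0, 0], 64, 80), (7, [1], 0, 136)],
    trivB NB bs (wpow (lapp (gw t.2.1) (wdA bl t.2.2.1)) 2) = true ∧ act t.2.1 t.1 = t.1 ∧
      t.2.2.2 ^^^ act t.2.1 t.2.2.2 = t.1 := by decide +kernel

variable {K : Type*} [Group K] {D : Set K} {E : Dom (Cj K) 3510} {f : ℕ → K}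

/-- the elements of the group generated by the base -/
noncomputable def ee (f : ℕ → K) (x : ℕ) : K := ev (slp f W3 30) (wdA bl x)

/-- elements normalising the base -/
noncomputable def gg (f : ℕ → K) (w : List ℕ) : K := ev (slp f W3 30) (gw w)

theorem ee_pr (x : ℕ) : ee f x = pr (bl.map (evL (slp f W3 30))) x := ev_wdA _ _ _

theorem e0 : ee f 0 = 1 := rfl

theorem ev_old {w : List ℕ} (h : lettersLe 30 [w] = true) : ev (slp f W3 30) w = ev f w :=
  ev_slp h W3 (by simp)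

theorem e1 : ee f 1 = ev f w0 := ev_old (w := w0) (by decide +kernel)
theorem e2 : ee f 2 = ev f [5] := ev_old (w := [5]) (by decide +kernel)
theorem e4 : ee f 4 = ev f [9] := ev_old (w := [9]) (by decide +kernel)
theorem e8 : ee f 8 = ev f [15] := ev_old (w := [15]) (by decide +kernel)
theorem e16 : ee f 16 = ev f [59] := ev_old (w := [59]) (by decide +kernel)

theorem e_lt (x : ℕ) : ∃ y < 1024, ee f y = ee f x := by
  obtain ⟨y, a, b⟩ := pr_lt (gs := bl.map (evL (slp f W3 30))) x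
  rw [List.length_map] at a
  exact ⟨y, a, by rw [ee_pr, ee_pr, b]⟩

theorem bl_id : bl.map (evL (slp f W3 30)) = ID.map (ee f) := by
  have : ∀ l, evL (slp f W3 30) l = ev (slp f W3 30) [l] := fun l => by simp
  simp only [funext this]
  rfl

variable (M : M22 D E f)
include M

theorem memB {x : K} : x ∈ sv E vB ↔ ∃ p ∈ syn, ee f p = x := by
  have k : ∀ i < 22, ee f (nth 0 syn i) = cw0 (slp f W3 30) w0 (nth [] ([] :: sp1) i) := fun i hi => by
    rw [← (M.mb.arePts sp_pts (i := i) hi).1, ee]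
    congr 1
    revert i
    decide +kernel
  rw [← sp_pws, M.mb.sv_pws]
  constructor
  · rintro ⟨w, hw, rfl⟩
    obtain ⟨i, hi, rfl⟩ := exists_nth_of_mem [] hw
    exact ⟨_, nth_mem 0 hi, k i hi⟩
  · rintro ⟨p, hp, rfl⟩
    obtain ⟨i, hi, rfl⟩ := exists_nth_of_mem 0 hp
    exact ⟨_, nth_mem [] hi, (k i hi).symm⟩

theorem eB {p : ℕ} (hp : p ∈ syn) : ee f p ∈ sv E vB := (memB M).2 ⟨p, hp, rfl⟩

theorem eD {p : ℕ} (hp : p ∈ syn) : ee f p ∈ D := M.sv_sub _ (eB M hp)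

theorem blB : ∀ g ∈ bl.map (evL (slp f W3 30)), g ∈ sv E vB := fun g hg => by
  rw [bl_id] at hg
  obtain ⟨p, hp, rfl⟩ := List.mem_map.1 hg
  exact eB M ((by decide +kernel : ∀ p ∈ ID, p ∈ syn) p hp)

theorem ex (x y : ℕ) : ee f (x ^^^ y) = ee f x * ee f y := by
  simp only [ee_pr]
  exact pr_xor (fun g hg => M.q.sq _ (M.sv_sub _ (blB M g hg))) (fun g hg h hh => M.mb.commB _ (blB M g hg) _ (blB M h hh)) x y

theorem e_sq (x : ℕ) : ee f x * ee f x = 1 := by rw [← ex M, Nat.xor_self, e0]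

theorem e_inv (x : ℕ) : (ee f x)⁻¹ = ee f x := inv_eq_of_mul_eq_one_right (e_sq M x)

theorem e_cm (x y : ℕ) : Commute (ee f x) (ee f y) := by rw [Commute, SemiconjBy, ← ex M, ← ex M, Nat.xor_comm]

theorem e_a (x : ℕ) : Commute (ev f w0) (ee f x) := e1 (f := f) ▸ e_cm M 1 x

theorem e_inj {x y : ℕ} (hx : x < 1024) (hy : y < 1024) (h : ee f x = ee f y) : x = y := by
  by_contra n
  have a : x ^^^ y ≠ 0 := fun e => n (Nat.xor_eq_zero_iff.1 e)
  have b : x ^^^ y < 1024 := Nat.xor_lt_two_pow (n := 10) hx hy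
  have c : ee f (x ^^^ y) = 1 := by rw [ex M, h, e_sq M]
  generalize x ^^^ y = u at a b c
  have := allFrom_iff.1 wd_ne (u - 1) (by omega)
  rw [show 1 + (u - 1) = u by omega, Bool.not_eq_true'] at this
  exact M.mb.ne_one_of_trivB this c

theorem hom {G : Type*} [Group G] {φ : K → G} (m : ∀ {x y}, Commute (ev f w0) x → Commute (ev f w0) y →
    φ (x * y) = φ x * φ y) {e : ℕ → G} (h0 : e 0 = 1) (hx : ∀ x y, e (x ^^^ y) = e x * e y) {ys : List ℕ}
    (k : ID.map (fun b => φ (ee f b)) = ys.map e) (x : ℕ) : φ (ee f x) = e (ln ys x) := by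
  rw [ee_pr, bl_id]
  refine pr_hom (H := centralizer {ev f w0}) (fun g hg => ?_) (fun x hx y hy => m (mem_centralizer_singleton_iff.1 hx).symm
    (mem_centralizer_singleton_iff.1 hy).symm) h0 hx ?_ x
  · obtain ⟨p, -, rfl⟩ := List.mem_map.1 hg
    exact mem_centralizer_singleton_iff.2 (e_a M p).symm
  · rw [List.forall₂_map_left_iff]
    rwa [← List.forall₂_eq_eq_eq, List.forall₂_map_left_iff, List.forall₂_map_right_iff] at k

theorem gg_act (w : List ℕ) (x : ℕ) : gg f w * ee f x * (gg f w)⁻¹ = ee f (act w x) := by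
  induction w with
  | nil => simp [gg, gw, lmap, act]
  | cons i w ih =>
    have k : ∀ i < 6, ∀ x, evL (slp f W3 30) (nth 0 gl i) * ee f x * (evL (slp f W3 30) (nth 0 gl i))⁻¹ =
        ee f (ln (nth ID GM i) x) := fun i hi x => by
      rw [ee_pr]
      refine pr_hom (H := ⊤) (φ := fun x => _ * x * _⁻¹) (fun _ _ => trivial) (fun x _ y _ => conj_mul.symm) e0 (ex M) ?_ x
      rw [List.forall₂_map_left_iff]
      refine (lall2_iff.1 (gm_ok i hi)).imp fun l y h => ?_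
      simpa [evL_linv, mul_assoc, ee] using M.mb.eq_of_eqB h
    have e : gg f (i :: w) = evL (slp f W3 30) (nth 0 gl i) * gg f w := ev_cons _ _ _
    rw [e, cj_aux2, ih, act_cons]
    by_cases hi : i < 6
    · exact k i hi _
    · rw [nth_of_le 0 (l := gl) (show 5 ≤ i by omega), nth_of_le ID (l := GM) (show 5 ≤ i by omega)]
      exact k 5 (by decide) _

omit M in
theorem act_one (w : List ℕ) : act w 1 = 1 := by
  induction w with
  | nil => rfl
  | cons i w ih =>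
    rw [act_cons, ih]
    rcases nth_mem_or ID GM i with h | h
    · exact (by decide +kernel : ∀ l ∈ GM, ln l 1 = 1) _ h
    · rw [h]; decide +kernel

theorem gg_cm {w : List ℕ} {x : ℕ} (h : act w x = x) : Commute (gg f w) (ee f x) :=
  commute_iff_conj'.2 (by rw [gg_act M, h])

theorem gg_a (w : List ℕ) : Commute (ev f w0) (gg f w) := e1 (f := f) ▸ (gg_cm M (act_one w)).symm

theorem cenB {g : K} (h : ∀ p ∈ syn, Commute g (ee f p)) : ∃ x < 1024, ee f x = g := by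
  have m : g ∈ centralizer (sv E vB) := fun y hy => by
    obtain ⟨p, hp, rfl⟩ := (memB M).1 hy
    exact (h p hp).symm
  rw [M.mb.centB] at m
  suffices ∃ x, ee f x = g from let ⟨x, e⟩ := this; e ▸ e_lt x
  clear h
  induction m using closure_induction with
  | mem x hx =>
    obtain ⟨w, hw, rfl⟩ := hx
    exact let ⟨p, _, e⟩ := (memB M).1 (M.mb.memA w hw); ⟨p, e⟩
  | one => exact ⟨0, rfl⟩
  | mul x y _ _ a b =>
    obtain ⟨x, rfl⟩ := a
    obtain ⟨y, rfl⟩ := b
    exact ⟨_, ex M x y⟩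
  | inv x _ a =>
    obtain ⟨x, rfl⟩ := a
    exact ⟨x, (e_inv M x).symm⟩

theorem eT {p : ℕ} (hp : p ∈ syn1) : ee f p ∈ sv E Q :=
  M.dd.le ⟨eD M (List.mem_cons_of_mem _ hp), fun e => (by decide +kernel : 1 ∉ syn1)
    (e_inj M (syn_lt p (List.mem_cons_of_mem _ hp)) (by decide) (e.trans e1.symm) ▸ hp), e_a M p⟩

theorem e_cq {l : List ℕ} (n : l.Nodup) (h : ∀ p ∈ l, p ∈ syn1) : Cq (sv E Q) (l.map (ee f)) :=
  ⟨n.map_on fun x hx y hy => e_inj M (syn_lt x (List.mem_cons_of_mem _ (h x hx)))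
    (syn_lt y (List.mem_cons_of_mem _ (h y hy))), by simpa using fun p hp => eT M (h p hp), by
    simpa using fun x _ y _ => e_cm M x y⟩

theorem e_prod (l : List ℕ) : (l.map (ee f)).prod = ee f (l.foldr (· ^^^ ·) 0) := by
  induction l with
  | nil => rfl
  | cons a l ih => rw [List.map_cons, List.prod_cons, ih, List.foldr_cons, ex M]

theorem cT {x : K} (hx : x ∈ sv E Q) : Commute (ev f w0) x := M.md.comm hx

theorem TD {x : K} (hx : x ∈ sv E Q) : x ∈ D := M.sv_sub _ hx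

theorem nT {g x : K} (c : Commute (ev f w0) g) (hx : x ∈ sv E Q) : g * x * g⁻¹ ∈ sv E Q :=
  M.hY.conj_mem (M.md.mem.2 c) hx

theorem cqD {l : List K} (h : Cq (sv E Q) l) : Cq D (ev f w0 :: l) := Cq.cons_dd M.base_mem (M.dd ▸ h)

theorem cq3 : Cq (sv E Q) [ev f [5], ev f [9], ev f [15]] := (RR.cq4 M).take 3

theorem nsq {s : K} (c : Commute (ev f w0) s) : s * s ≠ ev f w0 := fun e =>
  M.md.nsq (cq3 M) (LU.invs M) ⟨s, c, e⟩

theorem nsD {x : K} (hx : x ∈ D) (s : K) : s * s ≠ x := fun e => by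
  obtain ⟨g, a⟩ := ttc_trans M.primTT.cls hx M.base_mem
  have b : g * s * g⁻¹ * (g * s * g⁻¹) = ev f w0 := by rw [conj_mul, e, a]
  exact nsq M (b ▸ (Commute.refl _).mul_left (Commute.refl _)) b

theorem cls4 {y : K} (c : Commute (ev f w0) y) (hy : y * y = 1 ∨ y * y = ev f w0) : ∃ g, Commute (ev f w0) g ∧
    ∃ r ∈ [0, 2, 6, 14], y = g * ee f r * g⁻¹ ∨ y = ev f w0 * (g * ee f r * g⁻¹) := by
  obtain ⟨g, cg, r, hr, e⟩ := M.md.cls (cq3 M) (LU.invs M) c hy
  rw [← e2, ← e4, ← e8, ← ex M, ← ex M, ← e0 (f := f)] at hr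
  obtain ⟨r, h, rfl⟩ := List.mem_map.1 (show r ∈ [0, 2, 6, 14].map (ee f) from hr)
  exact ⟨g, cg, r, h, e⟩

theorem a_cj {g : K} (c : Commute (ev f w0) g) (r : ℕ) :
    ev f w0 * (g * ee f r * g⁻¹) = g * ee f (1 ^^^ r) * g⁻¹ := by
  rw [ex M, e1, ← conj_mul, commute_iff_conj'.1 c.symm]

theorem cls7 {y : K} (c : Commute (ev f w0) y) (hy : y * y = 1) : ∃ g, Commute (ev f w0) g ∧
    ∃ r ∈ [0, 1, 2, 3, 6, 7, 14], y = g * ee f r * g⁻¹ := by
  obtain ⟨g, cg, r, hr, e | e⟩ := cls4 M c (.inl hy)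
  · exact ⟨g, cg, r, (by decide : ∀ r ∈ [0, 2, 6, 14], r ∈ [0, 1, 2, 3, 6, 7, 14]) r hr, e⟩
  rw [a_cj M cg] at e
  by_cases k : r = 14
  · refine ⟨g * gg f [4, 3, 4, 4, 0, 1], cg.mul_right (gg_a M _), 14, by simp, ?_⟩
    rw [cj_aux2, gg_act M, e, k, show act [4, 3, 4, 4, 0, 1] 14 = 1 ^^^ 14 by decide +kernel]
  · exact ⟨g, cg, _, (by decide : ∀ r ∈ [0, 2, 6, 14], r ≠ 14 → 1 ^^^ r ∈ [0, 1, 2, 3, 6, 7, 14]) r hr k, e⟩

theorem sqr {r : ℕ} (hr : r ∈ [3, 6, 7]) : ∃ x j : K, Commute (ev f w0) x ∧ Commute (ev f w0) j ∧ x * x = 1 ∧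
    j * j = 1 ∧ Commute (ee f r) x ∧ Commute (ee f r) j ∧ x * j * (x * j) = ee f r := by
  obtain ⟨t, ht, rfl⟩ := List.mem_map.1 (show r ∈ [(3, [2, 0, 1, 0, 0], 200, 320), (6, [1, 0, 2, 0, 0], 64, 80),
    (7, [1], 0, 136)].map Prod.fst from hr)
  obtain ⟨a, b, c⟩ := sq_ok t ht
  have j := M.mb.eq_one_of_trivB a
  rw [ev_wpow, ev_lapp, pow_two] at j
  change gg f _ * ee f _ * (gg f _ * ee f _) = 1 at j
  refine ⟨ee f t.2.2.2, _, e_a M _, (gg_a M _).mul_right (e_a M _), e_sq M _, j, e_cm M _ _,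
    (gg_cm M b).symm.mul_right (e_cm M _ _), ?_⟩
  have k : gg f t.2.1 * ee f t.2.2.1 * ee f t.2.2.2 * (gg f t.2.1 * ee f t.2.2.1)⁻¹ = ee f (act t.2.1 t.2.2.2) := by
    rw [cj_aux2, commute_iff_conj'.1 (e_cm M _ _), gg_act M]
  rw [← c, ex M, ← k, inv_eq_of_mul_eq_one_right j]
  simp only [mul_assoc]

theorem np2 {x y : K} (h : Cq D [x, y]) : (perp D (x * y)).ncard = 182 := by
  simpa using StdZ.Fi.np M h (m := 2) rfl (by decide) (by decide)

theorem np3 {x y z : K} (h : Cq D [x, y, z]) : (perp D (x * (y * z))).ncard = 54 := by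
  simpa using StdZ.Fi.np M h (m := 3) rfl (by decide) (by decide)

/-- the centraliser of an involution has a small centre -/
theorem cenZ {s t : K} (c : Commute (ev f w0) s) (ss : s * s = 1) (n1 : s ≠ 1) (n2 : s ≠ ev f w0)
    (h : ∀ g, Commute (ev f w0) g → Commute g s → Commute g t) :
    t = 1 ∨ t = ev f w0 ∨ t = s ∨ t = ev f w0 * s := by
  have key : ∀ r ∈ [2, 6, 14], ∀ t, (∀ g, Commute (ev f w0) g → Commute g (ee f r) → Commute g t) →
      t = 1 ∨ t = ev f w0 ∨ t = ee f r ∨ t = ev f w0 * ee f r := fun r hr t h => by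
    obtain ⟨x, hx, rfl⟩ := cenB M (g := t) fun p _ => (h _ (e_a M p) (e_cm M p r)).symm
    obtain ⟨u, -, w, -, a, b, k⟩ := fixZ r hr
    have m : ∀ u, act u r = r → act u x = x := fun u a => e_inj M (act_lt u hx) hx (by
      rw [← gg_act M, commute_iff_conj'.1 (h _ (gg_a M u) (gg_cm M a))])
    rcases k x hx (m u a) (m w b) with rfl | rfl | rfl | rfl
    exacts [.inl rfl, .inr (.inl e1), .inr (.inr (.inl rfl)), .inr (.inr (.inr (by rw [ex M, e1])))]
  have aa := M.md.sq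
  obtain ⟨g, cg, r, hr, e⟩ := cls4 M c (.inl ss)
  have hr' : r ∈ [2, 6, 14] := (List.mem_cons.1 hr).resolve_left (by
    rintro rfl
    rcases e with e | e <;> simp [e0, e] at n1 n2)
  have ga := commute_iff_conj'.1 cg.symm
  have := key r hr' (g⁻¹ * t * g) fun k ck m => StdZ.comm_cj.1 (h _ ((cg.mul_right ck).mul_right cg.inv_right) (by
    have := (commute_conj_iff (g := g)).2 m
    rcases e with rfl | rfl
    exacts [this, ((cg.mul_right ck).mul_right cg.inv_right).symm.mul_right this]))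
  have i : ∀ {x}, g⁻¹ * t * g = x → t = g * x * g⁻¹ := fun e => by rw [← e]; group
  rcases this with a | a | a | a
  · exact .inl (by simpa using i a)
  · exact .inr (.inl ((i a).trans ga))
  · rcases e with rfl | rfl
    exacts [.inr (.inr (.inl (i a))), .inr (.inr (.inr (by rw [← mul_assoc, aa, one_mul, i a])))]
  · have := i a
    rw [← conj_mul, ga] at this
    rcases e with rfl | rfl
    exacts [.inr (.inr (.inr this)), .inr (.inr (.inl this))]

end CF.Fu
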