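import Cfsg.Agent.Fu.A2

/-! Automorphisms of the centraliser of a transposition of `Fi22`. -/

set_option autoImplicit false
set_option maxRecDepth 100000

namespace CF.Fu

open Cfsg Subgroup CF.Comp CF.Fisch CF.Fisch.F22

section

variable {K G H : Type*} [Group K] [Group G] [Group H] {a g : K} {d : G} {ρ : K → G} {α β : K → K}

theorem emb_symm (h : Emb a d ρ) : ∃ σ, Emb d a σ ∧ ∀ x, Commute a x → σ (ρ x) = x := by
  have k : ∀ y, ∃ x, Commute d y → Commute a x ∧ ρ x = y := fun y => by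
    by_cases c : Commute d y
    · exact let ⟨x, e⟩ := h.surj c; ⟨x, fun _ => e⟩
    · exact ⟨1, fun c' => absurd c' c⟩
  choose σ k using k
  have i : ∀ x, Commute a x → σ (ρ x) = x := fun x c => h.inj (k _ (h.comm c)).1 c (k _ (h.comm c)).2
  refine ⟨σ, ⟨fun {x y} c1 c2 => ?_, fun {x y} c1 c2 e => ?_, fun {x} c => ⟨_, h.comm c, i x c⟩,
    h.base ▸ i a (Commute.refl a)⟩, i⟩
  · rw [← (k x c1).2, ← (k y c2).2, ← h.mul (k x c1).1 (k y c2).1, i _ ((k x c1).1.mul_right (k y c2).1),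
      i _ (k x c1).1, i _ (k y c2).1]
  · rw [← (k x c1).2, e, (k y c2).2]

theorem emb_comp {c : H} {σ : G → H} (h : Emb a d ρ) (k : Emb d c σ) : Emb a c fun x => σ (ρ x) :=
  ⟨fun c1 c2 => by rw [h.mul c1 c2, k.mul (h.comm c1) (h.comm c2)],
    fun c1 c2 e => h.inj c1 c2 (k.inj (h.comm c1) (h.comm c2) e), fun c1 =>
    let ⟨_, c2, e⟩ := k.surj c1; let ⟨x, c3, e'⟩ := h.surj c2; ⟨x, c3, by rw [e', e]⟩, by rw [h.base, k.base]⟩

theorem emb_cj (c : Commute a g) : Emb a a fun x => g * x * g⁻¹ :=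
  ⟨fun _ _ => conj_mul.symm, fun _ _ => conj_inj.1, fun {x} k =>
    ⟨g⁻¹ * x * g, (c.inv_right.mul_right k).mul_right c, by group⟩, commute_iff_conj'.1 c.symm⟩

/-- a conjugate automorphism -/
def tw (g : K) (α : K → K) (x : K) : K := g⁻¹ * α (g * x * g⁻¹) * g

theorem emb_tw (h : Emb a a α) (c : Commute a g) : Emb a a (tw g α) := by
  have := emb_comp (emb_comp (emb_cj c) h) (emb_cj c.inv_right)
  simp only [inv_inv] at this
  exact this

theorem tw_tw (g k : K) (α : K → K) : tw k (tw g α) = tw (g * k) α := by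
  funext x
  simp only [tw, mul_inv_rev, mul_assoc]

theorem tw_inv (h : ∀ x, Commute a x → α (α x) = x) (c : Commute a g) {x : K} (k : Commute a x) :
    tw g α (tw g α x) = x := by
  simp only [tw]
  rw [show g * (g⁻¹ * α (g * x * g⁻¹) * g) * g⁻¹ = α (g * x * g⁻¹) by group, h _ ((c.mul_right k).mul_right c.inv_right)]
  group

/-- inner automorphisms -/
def Inn (a : K) (α : K → K) : Prop := ∃ g, Commute a g ∧ ∀ x, Commute a x → α x = g * x * g⁻¹

theorem Inn.of_tw (c : Commute a g) (h : Inn a (tw g α)) : Inn a α := by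
  obtain ⟨k, ck, e⟩ := h
  refine ⟨g * k * g⁻¹, (c.mul_right ck).mul_right c.inv_right, fun x cx => ?_⟩
  have := e _ ((c.inv_right.mul_right cx).mul_right c)
  rw [tw, show g * (g⁻¹ * x * g) * g⁻¹ = x by group] at this
  calc _ = g * (g⁻¹ * α x * g) * g⁻¹ := by group
    _ = _ := by rw [this]; group

theorem Inn.of_cj (c : Commute a g) (h : Inn a fun x => g * α x * g⁻¹) : Inn a α := by
  obtain ⟨k, ck, e⟩ := h
  refine ⟨g⁻¹ * k, c.inv_right.mul_right ck, fun x cx => ?_⟩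
  rw [cj_aux2, ← e x cx]
  group

end

noncomputable def cel (ps : List (List ℕ)) (p : List ℕ) : ℕ :=
  List.rec (motive := fun _ => ℕ) Q (fun q _ r => force r fun r => Bool.rec
    (Bool.rec (dif r (cw NB Q q)) r (inB NB (cw NB Q q) p)) (Nat.land r (qw NB Q q)) (inB NB (qw NB Q q) p)) ps

noncomputable def chain (st : List (List ℕ × List (List ℕ) × ℕ)) : List (List ℕ) → Bool :=
  List.rec (motive := fun _ => List (List ℕ) → Bool) (fun _ => true)
    (fun s _ ih ps => bnd (bnd (inB NB Q s.1) (bnd (lall (fun q => closedW NB s.2.1 (pw NB q)) ([] :: ps))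
      (sub (cel ps s.1) (CF.Comp.orb NB s.2.1 s.2.2 (pw NB s.1))))) (ih (s.1 :: ps))) st

noncomputable def st1 : List (List ℕ × List (List ℕ) × ℕ) := [([79], [[41], [21]], 10), ([51, 79], [[21], [45]], 9),
  ([44, 79], [[11], [21, 61, 22], [15], [41, 7, 42], [9]], 3), ([79, 79], [[47, 5, 48], [21, 59, 22], [47, 13, 48], [15]], 2)]
noncomputable def st2 : List (List ℕ × List (List ℕ) × ℕ) := [([7, 79], [[5], [9], [15], [59], [67]], 1),
  ([40, 79], [wdA bl 128, wdA bl 256, wdA bl 78], 1), ([79, 3], [wdA bl 32], 1)]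

theorem ch1 : chain st1 [] = true := by decide +kernel
theorem ch2 : chain st2 sp1 = true := by decide +kernel
theorem sp1Q : lall (inB NB Q) sp1 = true := by decide +kernel
theorem span : spanOK NB w0 (lapp (lmap Prod.fst st2) sp1) 2 Q = true := by decide +kernel
theorem vB_eq : vB = Nat.lor (cws NB Q Q [[79], [44, 79], [79, 79]]) (pw NB []) := by decide +kernel

variable {K : Type*} [Group K] {D : Set K} {E : Dom (Cj K) 3510} {f : ℕ → K} {α β : K → K} (M : M22 D E f)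
include M

theorem w0F : ev (slp f W3 30) w0 = ev f w0 := M.mb.base.symm.trans M.base

theorem sqc {r : ℕ} (hr : r ∈ [3, 6, 7]) : SqC (ev f w0) (ee f r) :=
  let ⟨_, _, a, b, _, _, _, _, e⟩ := sqr M hr; ⟨_, a.mul_right b, e⟩

theorem nA (h : Emb (ev f w0) (ev f w0) α) {x : K} (hx : x ∈ sv E Q) : α x ∈ sv E Q := by
  have c := cT M hx
  have d := TD M hx
  have aa := Commute.refl (ev f w0)
  have sq : ∀ {y}, Commute (ev f w0) y → SqC (ev f w0) (α y) → y ∉ D := fun {y} cy ⟨s, cs, e⟩ m => by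
    obtain ⟨s, ct, rfl⟩ := h.surj cs
    exact nsD M m s (h.inj (ct.mul_right ct) cy (by rw [h.mul ct ct, e]))
  obtain ⟨g, cg, r, hr, e⟩ := cls7 M (h.comm c) (by rw [← h.mul c c, M.q.sq x d, h.one])
  by_cases k : r ∈ [3, 6, 7]
  · exact absurd d (sq c (e ▸ (sqc M k).conj cg))
  have : r = 0 ∨ r = 1 ∨ r = 2 ∨ r = 14 := by clear e; revert r; decide
  rcases this with rfl | rfl | rfl | rfl
  · exact absurd (h.inj c (Commute.one_right _) (by simpa [e0, h.one] using e)) (tt_ne_one M.grp.1 d)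
  · rw [e1, commute_iff_conj'.1 cg.symm] at e
    exact absurd (h.inj c aa (e.trans h.base.symm)) (M.dd.ge hx).2.1
  · exact e ▸ nT M cg (eT M (by decide +kernel))
  · obtain ⟨k, ck, b⟩ := h.surj ((cg.mul_right (gg_a M [4, 3, 4, 4, 0, 1])).mul_right cg.inv_right)
    have : k * x * k⁻¹ = ev f w0 * x := h.inj ((ck.mul_right c).mul_right ck.inv_right) (aa.mul_right c) (by
      rw [h.conj ck c, b, e, h.mul aa c, h.base, e, a_cj M cg,
        ← show act [4, 3, 4, 4, 0, 1] 14 = 1 ^^^ 14 by decide +kernel, ← gg_act M]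
      group)
    obtain ⟨l, cl, rfl⟩ := RR.t1 M _ (eT M (p := 2) (by decide +kernel)) x hx
    obtain ⟨s, -, e⟩ := (sqc M (r := 3) (by simp)).conj cl
    rw [a_cj M cl] at this
    exact absurd (e.trans this.symm) (nsD M (M.cjD _ _ d) s)

theorem nA_iff (h : Emb (ev f w0) (ev f w0) α) {x : K} (c : Commute (ev f w0) x) : α x ∈ sv E Q ↔ x ∈ sv E Q :=
  let ⟨_, k, e⟩ := emb_symm h
  ⟨fun m => e x c ▸ nA M k m, nA M h⟩

theorem mem_cel (h : Emb (ev f w0) (ev f w0) α) {p : List ℕ} (hp : cw0 (slp f W3 30) w0 p ∈ sv E Q)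
    {ps : List (List ℕ)} (k : ∀ q ∈ ps, cw0 (slp f W3 30) w0 q ∈ sv E Q ∧
      α (cw0 (slp f W3 30) w0 q) = cw0 (slp f W3 30) w0 q) : α (cw0 (slp f W3 30) w0 p) ∈ sv E (cel ps p) := by
  induction ps with
  | nil => exact nA M h hp
  | cons q ps ih =>
    obtain ⟨a, b⟩ := k q (by simp)
    have i := ih fun x hx => k x (by simp [hx])
    have c := h.commute_iff (cT M a) (cT M hp)
    rw [b] at c
    rw [show cel (q :: ps) p = force (cel ps p) fun r => Bool.rec (Bool.rec (dif r (cw NB Q q)) r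
      (inB NB (cw NB Q q) p)) (Nat.land r (qw NB Q q)) (inB NB (qw NB Q q) p) from rfl, force_eq]
    cases e1 : inB NB (qw NB Q q) p
    · cases e2 : inB NB (cw NB Q q) p
      · rw [sv_dif, ← M.mb.perp_cw0]
        exact ⟨i, fun m => M.mb.not_commute_of_inB e2 (c.1 m.2)⟩
      · exact i
    · have m := M.mb.mem_of_inB e1
      rw [← M.mb.Dd_cw0] at m
      rw [sv_land, ← M.mb.Dd_cw0]
      exact ⟨i, M.sv_sub _ i, fun e => m.2.1 (h.inj (cT M hp) (cT M a) (e.trans b.symm)), c.2 m.2.2⟩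

theorem chain_ok (st : List (List ℕ × List (List ℕ) × ℕ)) : ∀ (ps : List (List ℕ)) (α : K → K),
    Emb (ev f w0) (ev f w0) α → (∀ q ∈ ps, cw0 (slp f W3 30) w0 q ∈ sv E Q ∧
      α (cw0 (slp f W3 30) w0 q) = cw0 (slp f W3 30) w0 q) → chain st ps = true → ∃ g, Commute (ev f w0) g ∧
      ∀ q ∈ st.map Prod.fst ++ ps, cw0 (slp f W3 30) w0 q ∈ sv E Q ∧
        g * α (cw0 (slp f W3 30) w0 q) * g⁻¹ = cw0 (slp f W3 30) w0 q := by
  induction st with
  | nil => exact fun ps α _ k _ => ⟨1, Commute.one_right _, by simpa using k⟩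
  | cons s st ih =>
    intro ps α h k c
    obtain ⟨c1, c2⟩ := brec_and.1 c
    obtain ⟨c1, c3⟩ := brec_and.1 c1
    obtain ⟨c3, c4⟩ := brec_and.1 c3
    have hp := M.mb.mem_of_inB c1
    obtain ⟨g, hg, y, hy, e⟩ := M.mb.exists_of_mem_orb (fun w hw => ev_mem_clo _ hw) (sv_mono E c4 (mem_cel M h hp k))
    rw [M.mb.sv_pw, Set.mem_singleton_iff] at hy
    have fx : ∀ q ∈ [] :: ps, g⁻¹ * cw0 (slp f W3 30) w0 q * g⁻¹⁻¹ = cw0 (slp f W3 30) w0 q := fun q hq => by
      have := (M.mb.closedW (lall_iff.1 c3 q hq) (inv_mem hg) (x := cw0 (slp f W3 30) w0 q)).2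
      rw [M.mb.sv_pw] at this
      exact this rfl
    have cg : Commute (ev f w0) g⁻¹ := by
      have := fx [] (by simp)
      rw [cw0_nil, w0F M] at this
      exact (commute_iff_conj'.2 this).symm
    obtain ⟨l, cl, b⟩ := ih (s.1 :: ps) _ (emb_comp h (emb_cj cg)) (List.forall_mem_cons.2
      ⟨⟨hp, by rw [← e, hy]; group⟩, fun q hq => ⟨(k q hq).1, by rw [(k q hq).2, fx q (by simp [hq])]⟩⟩) c2
    exact ⟨l * g⁻¹, cl.mul_right cg, fun q hq => by
      rw [cj_aux2]; exact b q (List.perm_middle.mem_iff.2 hq)⟩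

theorem Bc {x : K} (hx : x ∈ sv E vB) : Commute (ev f w0) x :=
  let ⟨p, _, e⟩ := (memB M).1 hx; e ▸ e_a M p

theorem frat (h : Emb (ev f w0) (ev f w0) α) : ∃ g, Commute (ev f w0) g ∧
    ∀ x, Commute (ev f w0) x → (g * α x * g⁻¹ ∈ sv E vB ↔ x ∈ sv E vB) := by
  obtain ⟨g, c, k⟩ := chain_ok M st1 [] α h (by simp) ch1
  have h' := emb_comp h (emb_cj c)
  refine ⟨g, c, fun x cx => ?_⟩
  simp only [vB_eq, sv_lor, M.mb.sv_pw, cw0_nil, w0F M, Set.mem_union, M.mb.mem_cws, Set.mem_singleton_iff]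
  refine or_congr (and_congr (nA_iff M h' cx) (forall₂_congr fun q hq => ?_))
    ⟨fun e => h'.inj cx (Commute.refl _) (e.trans h'.base.symm), fun e => e ▸ h'.base⟩
  obtain ⟨a, b⟩ := k q ((by decide +kernel : ∀ q ∈ [[79], [44, 79], [79, 79]], q ∈ st1.map Prod.fst ++ []) q hq)
  rw [← h'.commute_iff (cT M a) cx, b]

theorem cv (h : Emb (ev f w0) (ev f w0) α) (k : ∀ p ∈ syn, α (ee f p) = ee f p) :
    ∃ x < 1024, ∀ y, Commute (ev f w0) y → α y = ee f x * y * (ee f x)⁻¹ := by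
  obtain ⟨g, c, b⟩ := chain_ok M st2 sp1 α h (fun q hq => ⟨M.mb.mem_of_inB (lall_iff.1 sp1Q q hq), by
    obtain ⟨p, hp, e⟩ := (memB M).1 (sp_pws ▸ M.mb.mem_pws_map.2 (List.mem_map_of_mem (List.mem_cons_of_mem _ hq)))
    rw [← e, k p hp]⟩) ch2
  have h' := emb_comp h (emb_cj c)
  have all : ∀ y, Commute (ev f w0) y → g * α y * g⁻¹ = y := fun y cy => by
    have m := M.md.mem.2 cy
    rw [← M.mb.clo_gen span, clo_rws] at m
    have le : ∀ y ∈ closure {x | ∃ p ∈ lapp (lmap Prod.fst st2) sp1, cw0 (slp f W3 30) w0 p = x},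
        Commute (ev f w0) y := fun y hy => M.md.mem.1 (by rwa [← M.mb.clo_gen span, clo_rws])
    clear cy
    induction m using closure_induction with
    | mem x hx =>
      obtain ⟨p, hp, rfl⟩ := hx
      exact (b p (by rwa [lapp_eq, lmap_eq] at hp)).2
    | one => exact h'.one
    | mul x y hx hy a b => rw [h'.mul (le x hx) (le y hy), a, b]
    | inv x hx a => rw [h'.inv (le x hx), a]
  obtain ⟨x, hx, e⟩ := cenB M (g := g⁻¹) fun p hp =>
    (commute_iff_conj'.2 (by simpa only [k p hp] using all _ (e_a M p))).inv_left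
  exact ⟨x, hx, fun y cy => by rw [e]; conv_rhs => rw [← all y cy]
                               group⟩

theorem gg_nB (w : List ℕ) : gg f w ∈ normalizer (sv E vB) := by
  induction w with
  | nil => exact one_mem _
  | cons i w ih =>
    have e : gg f (i :: w) = ev (slp f W3 30) [nth 0 gl i] * gg f w := ev_append _ [_] _
    refine e ▸ mul_mem (M.mb.mem_nrm (ws := lmap (fun l => [l]) (0 :: gl)) (by decide +kernel) _ ?_) ih
    rw [lmap_eq]
    exact List.mem_map_of_mem (List.mem_cons.2 (nth_mem_or 0 gl i).symm)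

theorem e_id (x : ℕ) : ee f (ln ID x) = ee f x := (hom M (φ := id) (fun _ _ => rfl) e0 (ex M) rfl x).symm

theorem nf0 (h : Emb (ev f w0) (ev f w0) α) (b : ∀ x, Commute (ev f w0) x → (α x ∈ sv E vB ↔ x ∈ sv E vB))
    (h2 : α (ee f 2) = ee f 4) (h4 : α (ee f 4) = ee f 2) : Inn (ev f w0) α ∨
      (∃ g, Commute (ev f w0) g ∧ ∀ x, g * α (ee f x) * g⁻¹ = ee f (ln M0 x)) ∧ ((∀ x, α (α (ee f x)) = ee f x) →
        ∃ g, Commute (ev f w0) g ∧ ∀ x, tw g α (ee f x) = ee f (ln M0 x)) := by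
  have k : ∀ p, ∃ q, p ∈ syn → q ∈ syn ∧ ee f q = α (ee f p) := fun p => by
    by_cases hp : p ∈ syn
    · exact let ⟨q, e⟩ := (memB M).1 ((b _ (e_a M p)).2 (eB M hp)); ⟨q, fun _ => e⟩
    · exact ⟨0, fun a => absurd a hp⟩
  choose l k using k
  have s : ∀ p ∈ ID, p ∈ syn := by decide +kernel
  have m : ∀ y ∈ ID.map l, y ∈ syn := by simpa using fun p hp => (k p (s p hp)).1
  have lt := ln_lt fun y hy => syn_lt y (m y hy)
  have a : ∀ x, α (ee f x) = ee f (ln (ID.map l) x) := hom M h.mul e0 (ex M) (by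
    rw [List.map_map]; exact List.map_congr_left fun p hp => (k p (s p hp)).2.symm)
  have t1 : ∀ x < 1024, tb T1 x = true ↔ ee f x ∈ sv E vB := fun x hx => by
    rw [t1_iff x hx, memB M]
    exact ⟨fun m => ⟨x, m, rfl⟩, fun ⟨p, hp, e⟩ => e_inj M (syn_lt p hp) hx e ▸ hp⟩
  have t2 : ∀ x < 1024, tb T2 x = true ↔ ∃ u ∈ sv E vB, ∃ v ∈ sv E vB, u * v = ee f x := fun x hx => by
    rw [t2_iff]
    refine ⟨fun ⟨p, hp, q, hq, e⟩ => ⟨_, eB M hp, _, eB M hq, by rw [← ex M, e]⟩, fun ⟨u, hu, v, hv, e⟩ => ?_⟩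
    obtain ⟨p, hp, rfl⟩ := (memB M).1 hu
    obtain ⟨q, hq, rfl⟩ := (memB M).1 hv
    exact ⟨p, hp, q, hq, e_inj M (Nat.xor_lt_two_pow (n := 10) (syn_lt p hp) (syn_lt q hq)) hx (by rw [ex M, e])⟩
  have v : ∀ p ∈ syn, ∀ q ∈ syn, α (ee f p) = ee f q → l p = q := fun p hp q hq e =>
    e_inj M (syn_lt _ (k p hp).1) (syn_lt q hq) ((k p hp).2.trans e)
  obtain ⟨u, w, c⟩ := norm m (by simp [ID]) (fun x hx => same_of (Bool.eq_iff_iff.2 (by
      rw [t1 _ (lt x), t1 x hx, ← a, b _ (e_a M x)])) (Bool.eq_iff_iff.2 (by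
      rw [t2 _ (lt x), t2 x hx, ← a]
      refine ⟨fun ⟨u, hu, v, hv, e⟩ => ?_, fun ⟨u, hu, v, hv, e⟩ =>
        ⟨_, (b u (Bc M hu)).2 hu, _, (b v (Bc M hv)).2 hv, by rw [← h.mul (Bc M hu) (Bc M hv), e]⟩⟩
      obtain ⟨u, cu, rfl⟩ := h.surj (Bc M hu)
      obtain ⟨v, cv, rfl⟩ := h.surj (Bc M hv)
      exact ⟨u, (b u cu).1 hu, v, (b v cv).1 hv, h.inj (cu.mul_right cv) (e_a M x) (by rw [h.mul cu cv, e])⟩)))
    (show [l 1, l 2, l 4] = _ by
      rw [v 1 (by decide +kernel) 1 (by decide +kernel) (by rw [e1, h.base]), v 2 (by decide +kernel) 4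
        (by decide +kernel) h2, v 4 (by decide +kernel) 2 (by decide +kernel) h4])
  have h' := emb_comp h (emb_cj (gg_a M u))
  have z : ∀ {ys}, (ID.map l).map (act u) = ys → ∀ x, gg f u * α (ee f x) * (gg f u)⁻¹ = ee f (ln ys x) :=
    fun {ys} e => hom M (ys := ys) (φ := fun x => gg f u * α x * (gg f u)⁻¹) h'.mul e0 (ex M) (by
      rw [← e, List.map_map, List.map_map]
      exact List.map_congr_left fun p hp => by rw [← (k p (s p hp)).2, gg_act M]; rfl)
  refine c.imp (fun c => ?_) fun ⟨c, d⟩ => ⟨⟨_, gg_a M u, z c⟩, fun i => ⟨_, gg_a M w, fun x => ?_⟩⟩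
  · obtain ⟨x, -, e⟩ := cv M h' fun p _ => (z c p).trans (e_id M p)
    exact Inn.of_cj (gg_a M u) ⟨_, e_a M x, e⟩
  · replace d := d (by
      rw [List.map_map]
      exact (List.map_congr_left fun p hp => e_inj M (lt _) (syn_lt p (s p hp)) (by
        rw [← a, (k p (s p hp)).2, i])).trans (List.map_id _))
    refine hom M (emb_tw h (gg_a M w)).mul e0 (ex M) ?_ x
    have := congrArg (List.map fun y => (gg f w)⁻¹ * ee f y * gg f w) d
    simp only [List.map_map] at this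
    refine ((List.map_congr_left fun p _ => ?_).trans this).trans (List.map_congr_left fun p _ => ?_)
    · rw [tw, gg_act M, a]; rfl
    · rw [Function.comp_apply, ← gg_act M]; group

omit M in
theorem syn_ne {p : ℕ} (hp : p ∈ syn) (n : p ≠ 1) : p ∈ syn1 := (List.mem_cons.1 hp).resolve_left n

theorem img (h : Emb (ev f w0) (ev f w0) α) (b : ∀ x, Commute (ev f w0) x → (α x ∈ sv E vB ↔ x ∈ sv E vB))
    {p : ℕ} (hp : p ∈ syn1) : ∃ q ∈ syn1, α (ee f p) = ee f q := by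
  obtain ⟨q, hq, e⟩ := (memB M).1 ((b _ (e_a M p)).2 (eB M (List.mem_cons_of_mem _ hp)))
  refine ⟨q, syn_ne hq ?_, e.symm⟩
  rintro rfl
  exact (M.dd.ge (nA M h (eT M hp))).2.1 (e.symm.trans e1)

theorem nf (h : Emb (ev f w0) (ev f w0) α) :
    Inn (ev f w0) α ∨ ∃ g, Commute (ev f w0) g ∧ ∀ x, g * α (ee f x) * g⁻¹ = ee f (ln M0 x) := by
  obtain ⟨g, c, b⟩ := frat M h
  have h1 := emb_comp h (emb_cj c)
  obtain ⟨p, hp, e2⟩ := img M h1 b (p := 2) (by decide +kernel)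
  obtain ⟨q, hq, e4⟩ := img M h1 b (p := 4) (by decide +kernel)
  obtain ⟨w, a2, a4⟩ := two hp hq (by
    rintro rfl
    exact absurd (e_inj M (by decide) (by decide) (h1.inj (e_a M _) (e_a M _) (e2.trans e4.symm))) (by decide))
  refine (nf0 M (emb_comp h1 (emb_cj (gg_a M w))) (fun x cx => ((gg_nB M w) _).symm.trans (b x cx))
    (by rw [e2, gg_act M, a2]) (by rw [e4, gg_act M, a4])).imp (fun i => (i.of_cj (gg_a M w)).of_cj c)
    fun ⟨⟨k, ck, e⟩, _⟩ => ⟨k * gg f w * g, (ck.mul_right (gg_a M w)).mul_right c, fun x => ?_⟩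
  rw [cj_aux2, cj_aux2, e]

theorem ix (h : Emb (ev f w0) (ev f w0) α) (k : Emb (ev f w0) (ev f w0) β) :
    Inn (ev f w0) α ∨ Inn (ev f w0) β ∨ Inn (ev f w0) fun x => α (β x) := by
  refine (nf M h).imp id fun ⟨g, c, a⟩ => (nf M k).imp id fun ⟨l, d, b⟩ => ?_
  obtain ⟨x, -, e⟩ := cv M (emb_comp (emb_comp k (emb_cj d)) (emb_comp h (emb_cj c))) fun p hp => by
    rw [b, a, (by decide +kernel : ∀ p ∈ syn, ln M0 (ln M0 p) = p) p hp]
  refine Inn.of_cj (h.comm d) (Inn.of_cj c ⟨_, e_a M x, fun y cy => ?_⟩)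
  rw [← e y cy, h.conj d (k.comm cy)]

theorem ib (h : Emb (ev f w0) (ev f w0) α) (i : ∀ x, Commute (ev f w0) x → α (α x) = x) :
    ∃ g, Commute (ev f w0) g ∧ ∀ x, Commute (ev f w0) x → (tw g α x ∈ sv E vB ↔ x ∈ sv E vB) := by
  classical
  have := M.finite
  obtain ⟨k, ck, b⟩ := frat M h
  have nm : ∀ {n}, (∀ y ∈ sv E vB, n * y * n⁻¹ ∈ sv E vB) → n ∈ normalizer (sv E vB) := fun a =>
    mem_normalizer_fintype a
  have cc : ∀ g : centralizer ({ev f w0} : Set K), Commute (ev f w0) g := fun g =>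
    (mem_centralizer_singleton_iff.1 g.2).symm
  let σ : centralizer ({ev f w0} : Set K) → centralizer ({ev f w0} : Set K) := fun g =>
    ⟨α g * k⁻¹, mem_centralizer_singleton_iff.2 ((h.comm (cc g)).mul_right ck.inv_right).symm⟩
  let P := (normalizer (sv E vB)).subgroupOf (centralizer {ev f w0})
  let τ : _ ⧸ P → _ ⧸ P := Quotient.map' σ fun x y e => by
    rw [QuotientGroup.leftRel_apply] at e ⊢
    refine nm fun z hz => ?_
    obtain ⟨u, cu, rfl⟩ := (emb_comp h (emb_cj ck)).surj (Bc M hz)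
    have c := (cc x).inv_right.mul_right (cc y)
    have := (b _ ((c.mul_right cu).mul_right c.inv_right)).2 ((e _).1 ((b u cu).1 hz))
    rw [h.conj c cu, h.mul (cc x).inv_right (cc y), h.inv (cc x)] at this
    change (α x * k⁻¹)⁻¹ * (α y * k⁻¹) * _ * ((α x * k⁻¹)⁻¹ * (α y * k⁻¹))⁻¹ ∈ _
    convert this using 1
    group
  have inv : Function.Involutive τ := fun q => by
    induction q using QuotientGroup.induction_on with | H g =>
    refine QuotientGroup.eq.2 (nm fun z hz => ?_)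
    have c := (ck.mul_right (h.comm (Bc M hz))).mul_right ck.inv_right
    have := (b _ c).2 ((b z (Bc M hz)).2 hz)
    rw [h.conj ck (h.comm (Bc M hz)), i z (Bc M hz)] at this
    change (α (α g * k⁻¹) * k⁻¹)⁻¹ * g * _ * ((α (α g * k⁻¹) * k⁻¹)⁻¹ * g)⁻¹ ∈ _
    rw [h.mul (h.comm (cc g)) ck.inv_right, i _ (cc g), h.inv ck]
    convert this using 1
    group
  have := Fintype.ofFinite (centralizer ({ev f w0} : Set K) ⧸ P)
  obtain ⟨q, e⟩ := Equiv.Perm.exists_fixed_point_of_prime (p := 2) (n := 1) (σ := inv.toPerm) (by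
    have := not_dvd_relIndex (p := 2) inf_le_right M.mb.cardP M.mb.cardC (by decide) (by decide)
    rwa [inf_relIndex_right, M.base, relIndex, index_eq_card, Nat.card_eq_fintype_card] at this)
    (Equiv.ext inv)
  induction q using QuotientGroup.induction_on with | H g =>
  have n : (α g * k⁻¹)⁻¹ * g ∈ normalizer (sv E vB) :=
    (QuotientGroup.eq.1 (show ((σ g : _) : _ ⧸ P) = g from e) : (σ g)⁻¹ * g ∈ P)
  refine ⟨g, cc g, fun x cx => ((n _).trans ?_).trans (b x cx)⟩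
  rw [tw, h.conj (cc g) cx]
  exact iff_of_eq (by congr 1; group)

theorem out (h : Emb (ev f w0) (ev f w0) α) (i : ∀ x, Commute (ev f w0) x → α (α x) = x) (n : ¬ Inn (ev f w0) α) :
    ∃ g, Commute (ev f w0) g ∧ ∀ x, tw g α (ee f x) = ee f (ln M0 x) := by
  obtain ⟨g, c, b⟩ := ib M h i
  have h1 := emb_tw h c
  obtain ⟨p, hp, m⟩ : ∃ p ∈ syn, tw g α (ee f p) ≠ ee f p := by
    by_contra! k
    obtain ⟨x, -, e⟩ := cv M h1 k
    exact n (Inn.of_tw c ⟨_, e_a M x, e⟩)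
  replace hp := syn_ne hp (by rintro rfl; exact m (by rw [e1, h1.base]))
  obtain ⟨q, hq, e⟩ := img M h1 b hp
  obtain ⟨w, a2, a4⟩ := two hp hq (by rintro rfl; exact m e)
  have c' := (gg_a M w).inv_right
  have v : ∀ x, tw (gg f w)⁻¹ (tw g α) (ee f (act w x)) = gg f w * tw g α (ee f x) * (gg f w)⁻¹ := fun x => by
    rw [← gg_act M, tw]
    simp [mul_assoc]
  obtain ⟨l, cl, k⟩ := ((nf0 M (emb_tw h1 c') (fun x cx => by
      have := ((inv_mem (gg_nB M w)) x).trans (b _ ((c'.mul_right cx).mul_right c'.inv_right)).symm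
      rw [this, tw]
      simpa only [inv_inv] using ((gg_nB M w) _).symm)
    (by rw [← a4, v, ← e, tw_inv i c (e_a M p), gg_act M, a2]) (by rw [← a2, v, e, gg_act M, a4])).resolve_left
    fun j => n ((j.of_tw c').of_tw c)).2 fun x => tw_inv (fun _ => tw_inv i c) c' (e_a M x)
  exact ⟨_, c.mul_right (c'.mul_right cl), by rwa [← tw_tw, ← tw_tw]⟩

end CF.Fu
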