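import Cfsg.Agent.Fu.A3

/-! Frames for a standard subgroup `2.U6(2)`. -/

set_option autoImplicit false
set_option maxRecDepth 100000

namespace CF.Fu

open Cfsg Subgroup CF.Comp CF.Fisch CF.Fisch.F22 CF.StdZ CF.Loc

variable {K G S : Type*} [Group K] [Group G] [Group S] {S0 : Subgroup S} {F F' : Dt G S} {ρ : K → G} {a : K}

/-- a frame with an identification of the standard subgroup -/
structure Fm (S0 : Subgroup S) (a : K) (F : Dt G S) (ρ : K → G) : Prop where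
  fr : Fr S0 F
  mul : ∀ {x y}, Commute a x → Commute a y → ρ (x * y) = ρ x * ρ y
  inj : ∀ {x y}, Commute a x → Commute a y → ρ x = ρ y → x = y
  base : ρ a = F.z
  mem : ∀ {x}, Commute a x → ρ x ∈ F.L
  surj : ∀ {l}, l ∈ F.L → ∃ x, Commute a x ∧ ρ x = l

namespace Fm

variable (h : Fm S0 a F ρ)
include h

theorem one : ρ 1 = 1 := by simpa using h.mul (Commute.one_right a) (Commute.one_right a)

theorem inv {x : K} (c : Commute a x) : ρ x⁻¹ = (ρ x)⁻¹ :=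
  eq_inv_of_mul_eq_one_left (by rw [← h.mul c.inv_right c, inv_mul_cancel, h.one])

theorem conj {g x : K} (c1 : Commute a g) (c2 : Commute a x) : ρ (g * x * g⁻¹) = ρ g * ρ x * (ρ g)⁻¹ := by
  rw [h.mul (c1.mul_right c2) c1.inv_right, h.mul c1 c2, h.inv c1]

theorem commute_iff {x y : K} (c1 : Commute a x) (c2 : Commute a y) : Commute (ρ x) (ρ y) ↔ Commute x y := by
  rw [commute_iff_eq, commute_iff_eq, ← h.mul c1 c2, ← h.mul c2 c1]
  exact ⟨h.inj (c1.mul_right c2) (c2.mul_right c1), congrArg ρ⟩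

theorem comm {x : K} (c : Commute a x) : Commute F.z (ρ x) := h.fr.cL (h.mem c)

theorem amul {x : K} (c : Commute a x) : ρ (a * x) = F.z * ρ x := by rw [h.mul (Commute.refl a) c, h.base]

theorem cK {x : K} {k : G} (c : Commute a x) (hk : k ∈ F.K) : Commute (ρ x) k := h.fr.cLK (h.mem c) hk

theorem cj (g : G) : Fm S0 a (F.cj g) fun x => g * ρ x * g⁻¹ :=
  ⟨h.fr.cj g, fun c d => by rw [h.mul c d, conj_mul], fun c d e => h.inj c d (conj_inj.1 e), by rw [h.base]; rfl,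
    fun c => ⟨_, h.mem c, rfl⟩, by
    rintro _ ⟨l, hl, rfl⟩
    exact let ⟨x, c, e⟩ := h.surj hl; ⟨x, c, by rw [e]; rfl⟩⟩

theorem tw {g : K} (c : Commute a g) : Fm S0 a F fun x => ρ (g * x * g⁻¹) :=
  have k := emb_cj c
  ⟨h.fr, fun d e => by rw [← conj_mul, h.mul (k.comm d) (k.comm e)], fun d e b => k.inj d e (h.inj (k.comm d) (k.comm e) b),
    by rw [k.base, h.base], fun d => h.mem (k.comm d), fun hl =>
    let ⟨_, d, e⟩ := h.surj hl; let ⟨x, b, e'⟩ := k.surj d; ⟨x, b, by rw [e', e]⟩⟩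

theorem act {c : G} (hc : Commute F.z c) : ∃ α, Emb a a α ∧ ∀ x, Commute a x → ρ (α x) = c * ρ x * c⁻¹ := by
  have k : ∀ x, ∃ y, Commute a x → Commute a y ∧ ρ y = c * ρ x * c⁻¹ := fun x => by
    by_cases cx : Commute a x
    · exact let ⟨y, e⟩ := h.surj (h.fr.nL hc (h.mem cx)); ⟨y, fun _ => e⟩
    · exact ⟨1, fun c' => absurd c' cx⟩
  choose α k using k
  refine ⟨α, ⟨fun {x y} c1 c2 => h.inj (k _ (c1.mul_right c2)).1 ((k _ c1).1.mul_right (k _ c2).1) ?_,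
    fun {x y} c1 c2 e => h.inj c1 c2 (conj_inj.1 (((k x c1).2.symm.trans (congrArg ρ e)).trans (k y c2).2)),
    fun {y} cy => ?_, h.inj (k _ (Commute.refl a)).1 (Commute.refl a) ?_⟩, fun x cx => (k x cx).2⟩
  · rw [h.mul (k _ c1).1 (k _ c2).1, (k _ c1).2, (k _ c2).2, (k _ (c1.mul_right c2)).2, h.mul c1 c2, conj_mul]
  · obtain ⟨x, cx, e⟩ := h.surj (h.fr.nL hc.inv_right (h.mem cy))
    exact ⟨x, cx, h.inj (k x cx).1 cy (by rw [(k x cx).2, e]; group)⟩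
  · rw [(k _ (Commute.refl a)).2, h.base, conj_of_comm hc]

theorem memK {c : G} {g : K} (cg : Commute a g) (e : ∀ x, Commute a x → c * ρ x * c⁻¹ = ρ (g * x * g⁻¹)) :
    (ρ g)⁻¹ * c ∈ F.K := h.fr.memK.2 fun l hl => by
  obtain ⟨x, cx, rfl⟩ := h.surj hl
  refine comm_of_conj ?_
  rw [cj_aux2, e x cx, h.conj cg cx]
  group

theorem inn_iff {c : G} (hc : Commute F.z c) {α : K → K} (e : Emb a a α)
    (k : ∀ x, Commute a x → ρ (α x) = c * ρ x * c⁻¹) : Inn a α ↔ F.π c ∈ S0 := by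
  refine ⟨fun ⟨g, cg, b⟩ => ?_, fun m => ?_⟩
  · rw [← (h.fr.πeq (h.comm cg) hc).2 (h.memK cg fun x cx => by rw [← k x cx, b x cx])]
    exact h.fr.mem (h.mem cg)
  · obtain ⟨l, hl, u, hu, rfl⟩ := h.fr.dec hc m
    obtain ⟨g, cg, rfl⟩ := h.surj hl
    exact ⟨g, cg, fun x cx => h.inj (e.comm cx) ((cg.mul_right cx).mul_right cg.inv_right) (by
      rw [k x cx, h.conj cg cx, cj_aux2, conj_of_comm (h.cK cx hu)])⟩

end Fm

variable {D : Set K} {E : Dom (Cj K) 3510} {f : ℕ → K} (M : M22 D E f)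
include M

theorem exists_fm [Finite G] {L : Subgroup G} (hL : IsStandardSubgroup L) (hZ : Nat.card (center L) = 2)
    {U : Type*} [Field U] [Fintype U] (hU : Fintype.card U = 4) (e : L ⧸ center L ≃* PSU 6 U 2) :
    ∃ F ρ, Fm (MulAut.conj : Loc (sv E Q) →* MulAut (Loc (sv E Q))).range (ev f w0) F ρ ∧ F.L = L := by
  classical
  obtain ⟨ψ⟩ := RR.loc M U hU
  obtain ⟨z, z1, hz⟩ := (Nat.card_eq_two_iff' (1 : center L)).1 hZ
  have cz : ∀ x : L, x ∈ center L ↔ x = 1 ∨ x = z := fun x => ⟨fun m => or_iff_not_imp_left.2 fun n =>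
    congrArg Subtype.val (hz ⟨x, m⟩ fun e => n (congrArg Subtype.val e)), by rintro (rfl | rfl); exacts [one_mem _, z.2]⟩
  have d : Dc ((e.trans ψ.symm).toMonoidHom.comp (QuotientGroup.mk' _)) z.1 :=
    ⟨surj_quot _, fun x => (Subgroup.ext_iff.1 (ker_quot (e.trans ψ.symm)) x).trans (cz x), fun e => z1 (Subtype.ext e)⟩
  obtain ⟨φ, hφ⟩ := RR.equiv M d hL.1.1.commutator_eq_top
  have := (RR.locM M).simple
  have ct : center (Loc (sv E Q)) = ⊥ :=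
    center_simple (not_comm_of_card (a := 2) (b := 4598415360) (LU.cardL M) (by decide) (by decide))
  have ij := inn_inj ct
  obtain ⟨F, fr, rfl, -, -, -⟩ := exists_fr hL hZ (S0 := (MulAut.conj : Loc (sv E Q) →* MulAut (Loc (sv E Q))).range)
    (MulAut.conj.comp ((e.trans ψ.symm).toMonoidHom.comp (QuotientGroup.mk' _)))
    (by rw [MonoidHom.range_comp, MonoidHom.range_eq_top.2 d.surj, ← MonoidHom.range_eq_map])
    (by
      ext x
      exact (map_eq_one_iff _ ij).trans (Subgroup.ext_iff.1 (ker_quot (e.trans ψ.symm)) x))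
    (fun α => ⟨MulAut.congr (MonoidHom.ofInjective ij).symm α, fun x => by
      obtain ⟨x, rfl⟩ := (MonoidHom.ofInjective ij).surjective x
      rw [MonoidHom.ofInjective_apply, aut_conj, ← MonoidHom.ofInjective_apply ij]
      simp⟩)
    fun s hs => MulEquiv.ext fun x => (aut_comm ct).1 (hs _ ⟨x, rfl⟩)
  have m : ∀ {x}, Commute (ev f w0) x → x ∈ centralizer ({ev f w0} : Set K) := fun c =>
    mem_centralizer_singleton_iff.2 c.symm
  refine ⟨F, fun x => if c : x ∈ centralizer ({ev f w0} : Set K) then φ ⟨x, c⟩ else 1, ⟨fr, fun c1 c2 => ?_,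
    fun c1 c2 e => ?_, ?_, fun c => ?_, fun hl => ?_⟩, rfl⟩
  · simp only [dif_pos (m c1), dif_pos (m c2), dif_pos (m (c1.mul_right c2))]
    exact congrArg Subtype.val (φ.map_mul ⟨_, m c1⟩ ⟨_, m c2⟩)
  · simp only [dif_pos (m c1), dif_pos (m c2)] at e
    exact congrArg Subtype.val (φ.injective (Subtype.ext e))
  · simp only [dif_pos (m (Commute.refl _)), hφ]
    exact (fr.LK z.1.2 (fr.memK.2 fun l hl => congrArg Subtype.val (mem_center_iff.1 z.2 ⟨l, hl⟩))).resolve_left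
      fun e => z1 (Subtype.ext (Subtype.ext e))
  · simp only [dif_pos (m c)]
    exact (φ _).2
  · obtain ⟨x, e⟩ := φ.surjective ⟨_, hl⟩
    exact ⟨x, (mem_centralizer_singleton_iff.1 x.2).symm, by simp only [dif_pos x.2]; exact congrArg Subtype.val e⟩

namespace Fm

variable (h : Fm S0 (ev f w0) F ρ)
include h

theorem ix {c d : G} (hc : Commute F.z c) (hd : Commute F.z d) : F.π c ∈ S0 ∨ F.π d ∈ S0 ∨ F.π (c * d) ∈ S0 := by
  obtain ⟨α, a1, a2⟩ := h.act hc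
  obtain ⟨β, b1, b2⟩ := h.act hd
  rw [← h.inn_iff hc a1 a2, ← h.inn_iff hd b1 b2, ← h.inn_iff (hc.mul_right hd) (emb_comp b1 a1) fun x cx => by
    rw [a2 _ (b1.comm cx), b2 x cx, cj_aux2]]
  exact Fu.ix M a1 b1

theorem cmIn {c d : G} (hc : Commute F.z c) (hd : Commute F.z d) (s : S0.Normal) :
    F.π (c * (d * c⁻¹ * d⁻¹)) ∈ S0 := by
  have k := (hd.mul_right hc.inv_right).mul_right hd.inv_right
  have : F.π c ∈ S0 ↔ F.π (d * c⁻¹ * d⁻¹) ∈ S0 := by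
    rw [h.fr.conj hd hc.inv_right, h.fr.inv hc, ← inv_mem_iff (x := F.π c)]
    exact ⟨fun m => s.conj_mem _ m _, fun m => by simpa [mul_assoc] using s.conj_mem _ m (F.π d)⁻¹⟩
  rcases h.ix M hc k with a | a | a
  exacts [h.fr.mul hc k ▸ mul_mem a (this.1 a), h.fr.mul hc k ▸ mul_mem (this.2 a) a, a]

theorem out {c : G} (hc : Commute F.z c) (cc : c * c ∈ F.K) (n : F.π c ∉ S0) : ∃ g, Commute (ev f w0) g ∧
    ∀ x, c * ρ (g * ee f x * g⁻¹) * c⁻¹ = ρ (g * ee f (ln M0 x) * g⁻¹) := by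
  obtain ⟨α, a1, a2⟩ := h.act hc
  obtain ⟨g, cg, e⟩ := Fu.out M a1 (fun x cx => h.inj (a1.comm (a1.comm cx)) cx (by
    rw [a2 _ (a1.comm cx), a2 x cx, ← cj_aux2, conj_of_comm (h.cK cx cc)])) (mt (h.inn_iff hc a1 a2).1 n)
  refine ⟨g, cg, fun x => ?_⟩
  rw [← a2 _ ((emb_cj cg).comm (e_a M x)), ← e x, Fu.tw]
  congr 1
  group

theorem cv {c : G} (hc : Commute F.z c) (k : ∀ p ∈ syn, Commute c (ρ (ee f p))) :
    ∃ x < 1024, ∃ u ∈ F.K, c = ρ (ee f x) * u := by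
  obtain ⟨α, a1, a2⟩ := h.act hc
  obtain ⟨x, hx, e⟩ := Fu.cv M a1 fun p hp => h.inj (a1.comm (e_a M p)) (e_a M p) (by
    rw [a2 _ (e_a M p), commute_iff_conj'.1 (k p hp)])
  exact ⟨x, hx, _, h.memK (e_a M x) fun y cy => by rw [← a2 y cy, e y cy], by simp⟩

theorem ex (x y : ℕ) : ρ (ee f (x ^^^ y)) = ρ (ee f x) * ρ (ee f y) := by
  rw [Fu.ex M, h.mul (e_a M x) (e_a M y)]

theorem e_sq (x : ℕ) : ρ (ee f x) * ρ (ee f x) = 1 := by rw [← h.ex M, Nat.xor_self, e0, h.one]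

theorem e_inv (x : ℕ) : (ρ (ee f x))⁻¹ = ρ (ee f x) := inv_eq_of_mul_eq_one_right (h.e_sq M x)

theorem e_cm (x y : ℕ) : Commute (ρ (ee f x)) (ρ (ee f y)) :=
  (h.commute_iff (e_a M x) (e_a M y)).2 (Fu.e_cm M x y)

/-- the elements of the commutator space of an outer element -/
theorem yl {c : G} (k : ∀ x, c * ρ (ee f x) * c⁻¹ = ρ (ee f (ln M0 x))) {y : ℕ} (hy : y ∈ Yl) :
    Commute c (ρ (ee f y)) ∧ IsConj c (c * ρ (ee f y)) ∧ ρ (ee f y) ≠ 1 ∧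
      ∃ u v, Cq (sv E Q) [u, v] ∧ u * v = ee f y := by
  obtain ⟨a, ⟨x, -, b⟩, ⟨p, hp, q, hq, n, e⟩, -⟩ := yl_ok y hy
  have c1 : Commute c (ρ (ee f y)) := commute_iff_conj'.2 (by rw [k, a])
  have q := e_cq M (l := [p, q]) (by simpa using n) (by simp [hp, hq])
  refine ⟨c1, isConj_iff.2 ⟨ρ (ee f x), ?_⟩, fun i => ?_, _, _, q, by rw [← Fu.ex M, e]⟩
  · rw [c1.eq, ← b, h.ex M, ← k, h.e_inv M]
    group
  · have := h.inj (e_a M y) (e_a M 0) (i.trans h.one.symm)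
    exact absurd (e_inj M ((by decide +kernel : ∀ y ∈ Yl, y < 1024) y hy) (by decide) this ▸ hy) (by decide +kernel)

theorem inner [Finite G] [IsSimpleGroup G] (hG : ¬ IsMulCommutative G) : ∃ F', Pr S0 F F' ∧ F.π F'.z ∈ S0 := by
  obtain ⟨F', p⟩ := h.fr.exists_pr' hG
  by_cases i : F.π F'.z ∈ S0
  · exact ⟨F', p, i⟩
  obtain ⟨g, cg, e⟩ := h.out M p.cm (p.fe.zz ▸ one_mem _) i
  have h1 := h.tw cg
  have y := fun y => h1.yl M e (y := y)
  obtain ⟨u, rfl⟩ := p.cj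
  obtain ⟨y, hy, m⟩ : ∃ y ∈ Yl, (F.cj u).π (ρ (g * ee f y * g⁻¹)) ∈ S0 := by
    rcases (h.cj u).ix M (y 6 (by decide +kernel)).1 (y 80 (by decide +kernel)).1 with a | a | a
    exacts [⟨_, by decide +kernel, a⟩, ⟨_, by decide +kernel, a⟩, ⟨6 ^^^ 80, by decide +kernel, h1.ex M 6 80 ▸ a⟩]
  obtain ⟨a, b, c, -⟩ := h1.yl M e hy
  obtain ⟨x, e⟩ := isConj_iff.1 (p.conj.trans b)
  have e' : u⁻¹ * x * F.z * (u⁻¹ * x)⁻¹ = u⁻¹ * (x * F.z * x⁻¹) * u := by group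
  refine ⟨_, h.fr.pr (g := u⁻¹ * x) (e' ▸ comm_cj.1 (e ▸ (Commute.refl _).mul_right a)) fun k => c ?_, ?_⟩
  · rw [e', e] at k
    have : (F.cj u).z * ρ (g * ee f y * g⁻¹) = (F.cj u).z := by
      conv_rhs => rw [show (F.cj u).z = u * F.z * u⁻¹ from rfl, ← k]
      group
    simpa using this
  · rw [show (F.cj (u⁻¹ * x)).z = _ from e', e]
    have := p.fe.mul (Commute.refl _) a
    rw [p.fe.πz, one_mul] at this
    exact (show (F.cj u).π _ = _ from this) ▸ m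

theorem form (p : Pr S0 F F') (i : F.π F'.z ∈ S0) : ∃ g, Commute (ev f w0) g ∧ ∃ r ∈ [2, 6, 14], ∃ k ∈ F.K,
    F'.z = ρ (g * ee f r * g⁻¹) * k := by
  obtain ⟨l, hl, k, hk, e⟩ := h.fr.dec p.cm i
  obtain ⟨y, cy, rfl⟩ := h.surj hl
  have s := p.ττ
  rw [e, h.fr.πLK hl hk, ← h.fr.mul (h.comm cy) (h.comm cy), h.fr.ker ((h.comm cy).mul_right (h.comm cy))] at s
  obtain ⟨g, cg, r, hr, b⟩ := cls4 M cy ((h.fr.LK (mul_mem hl hl) s).imp
    (fun e => h.inj (cy.mul_right cy) (Commute.one_right _) (by rw [h.mul cy cy, e, h.one]))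
    fun e => h.inj (cy.mul_right cy) (Commute.refl _) (by rw [h.mul cy cy, e, h.base]))
  have c := (emb_cj cg).comm (e_a M r)
  obtain ⟨k, hk, e⟩ : ∃ k ∈ F.K, F'.z = ρ (g * ee f r * g⁻¹) * k := by
    rcases b with rfl | rfl
    · exact ⟨k, hk, e⟩
    · exact ⟨_, mul_mem h.fr.zK hk, by rw [e, h.amul c, (h.comm c).eq, mul_assoc]⟩
  refine ⟨g, cg, r, (List.mem_cons.1 hr).resolve_left ?_, k, hk, e⟩
  rintro rfl
  exact p.tK (by simpa [e, e0, h.one] using hk)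

theorem both (s : S0.Normal) (p : Pr S0 F F') {r : ℕ} (hr : r ∈ [2, 6, 14]) {k : G} (hk : k ∈ F.K)
    (e : F'.z = ρ (ee f r) * k) : ∃ F'', Pr S0 F' F'' ∧ F'.π F''.z ∈ S0 ∧ F''.π F'.z ∈ S0 := by
  obtain ⟨⟨g, w, x⟩, -, a1, a2, a3, a4⟩ := swp r hr
  simp only at a1 a2 a3 a4
  have v : ∀ y, ρ (gg f w) * (ρ (ee f y) * k) * (ρ (gg f w))⁻¹ = ρ (ee f (Fu.act w y)) * k := fun y => by
    rw [← conj_mul, conj_of_comm (h.cK (gg_a M w) hk).symm, ← h.conj (gg_a M w) (e_a M y), gg_act M]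
  have v1 := v r
  have v2 := v (Fu.act w r)
  rw [← e] at v1
  rw [a2, ← e, ← v1] at v2
  have ck : ∀ y, Commute (ρ (ee f y)) k := fun y => h.cK (e_a M y) hk
  have cz : ∀ y, Commute F'.z (ρ (ee f y)) := fun y => e ▸ (h.e_cm M r y).mul_left (ck y).symm
  have c1 : Commute F'.z (ρ (gg f w) * F'.z * (ρ (gg f w))⁻¹) :=
    v1 ▸ (cz _).mul_right (e ▸ (ck r).mul_left (Commute.refl k))
  have kk : k * k = 1 := by
    have := p.fe.zz
    rwa [e, ← pow_two, (ck r).mul_pow, pow_two, pow_two, h.e_sq M, one_mul] at this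
  have m : F'.π (ρ (gg f w) * F'.z * (ρ (gg f w))⁻¹) ∈ S0 := by
    have cg : Commute F'.z (ρ (gg f g)) := e ▸ ((h.commute_iff (e_a M r) (gg_a M g)).2 (gg_cm M a1).symm).mul_left
      (h.cK (gg_a M g) hk).symm
    obtain ⟨u, rfl⟩ := p.cj
    have := (h.cj u).cmIn M (cz x) cg s
    rw [h.e_inv M, ← h.conj (gg_a M g) (e_a M x), gg_act M, ← h.ex M, a4, h.ex M] at this
    rw [← one_mul ((F.cj u).π _), ← p.fe.πz, ← p.fe.mul (Commute.refl _) c1, v1, e, mul_assoc, ← mul_assoc k,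
      ← (ck _).eq, mul_assoc, kk, mul_one]
    exact this
  refine ⟨_, p.fe.pr c1 fun a => a3 ?_, m, ?_⟩
  · rw [v1, e, mul_left_inj] at a
    have : r < 1024 := (by decide : ∀ r ∈ [2, 6, 14], r < 1024) r hr
    exact e_inj M (act_lt w this) this (h.inj (e_a M _) (e_a M _) a)
  · change F'.π ((ρ (gg f w))⁻¹ * F'.z * ρ (gg f w)) ∈ S0
    conv in (occs := 1) F'.z => rw [← v2]
    simpa [mul_assoc] using m

end Fm

end CF.Fu
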