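import Cfsg.Agent.Fu.A4

/-! The centraliser of the standard subgroup `2.U6(2)` has order two. -/

set_option autoImplicit false
set_option maxRecDepth 100000

namespace CF.Fu

open Cfsg Subgroup CF.Comp CF.Fisch CF.Fisch.F22 CF.StdZ CF.Loc

variable {K G S : Type*} [Group K] [Group G] [Group S] {S0 : Subgroup S} {F F' : Dt G S} {ρ : K → G}
  {D : Set K} {E : Dom (Cj K) 3510} {f : ℕ → K}

/-- the properties of the trace of the centraliser of a conjugate -/
structure WX (a : K) (T : Set K) (t : K) (X : Subgroup K) (α : K → K) : Prop where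
  cj : ∀ g, Commute a g → Commute g t → ∀ x ∈ X, g * x * g⁻¹ ∈ X
  img : ∀ d ∈ T, Commute d t → Commute (α d) t
  cm : ∀ d ∈ T, Commute d t → α d * d ∈ X
  two : ∀ x y, Cq T [x, y] → x * y ∈ X → t = x * y ∨ t = a * (x * y)

namespace WX

variable {t : K} {X : Subgroup K} {α : K → K} (h : WX (ev f w0) (sv E Q) t X α) (M : M22 D E f)
  (e : Emb (ev f w0) (ev f w0) α)
include h M e

theorem step {d : K} {es : List K} (c : Cq (sv E Q) (d :: es)) (p : es.prod = d) (m : ∀ x ∈ d :: es, Commute x t) :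
    α d = d ∨ Cq (sv E Q) [α d, d] ∧ α d * d ∈ X := by
  have hd := c.2.1 d (by simp)
  have k := h.img d hd (m d (by simp))
  have k1 := nA M e hd
  have v := h.cm d hd (m d (by simp))
  by_cases n : α d = d
  · exact .inl n
  suffices Commute (α d) d from .inr ⟨Cq.two k1 hd n this, v⟩
  generalize α d = d' at k k1 v
  rw [← p]
  refine Commute.list_prod_right _ _ fun x hx => by_contra fun nc => nc ?_
  have hx' := c.2.1 x (by simp [hx])
  have dx := c.2.2 d (by simp) x (by simp [hx])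
  have b := tt_braid M.grp.1 (TD M k1) (TD M hx') nc
  have sd := M.hY.sq _ hd
  have sx := M.hY.sq _ hx'
  have s' := M.hY.sq _ k1
  have a := mul_mem (h.cj _ (cT M hd) (m d (by simp)) _
    (mul_mem (inv_mem v) (h.cj _ (cT M hx') (m x (by simp [hx])) _ v))) v
  have q : d * ((d' * d)⁻¹ * (x * (d' * d) * x⁻¹)) * d⁻¹ * (d' * d) = x * d := by
    rw [mul_inv_rev, M.hY.inv hd, M.hY.inv hx', M.hY.inv k1]
    calc _ = (d * d) * (d' * x * d') * (d * x * d) * d' * d := by group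
      _ = x * d' * (x * x) * d' * d := by rw [sd, b, dx.eq, mul_assoc x d, sd]; group
      _ = _ := by rw [sx, mul_one, mul_assoc x, s', mul_one]
  have cx : Cq (sv E Q) [x, d] := Cq.two hx' hd (fun e => (List.nodup_cons.1 c.1).1 (e ▸ hx)) dx.symm
  refine comm_of_comm_mul M.grp.1 (cqD M cx).tail (TD M k1) ?_
  rcases h.two _ _ cx (q ▸ a) with i | i
  · exact i ▸ k
  · have := (cT M k1).symm.mul_right (i ▸ k)
    rwa [← mul_assoc, M.md.sq, one_mul] at this

omit e in
theorem uq {x y u v : K} (c : Cq (sv E Q) [x, y]) (d : Cq (sv E Q) [u, v]) (a : x * y ∈ X) (b : u * v ∈ X) :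
    u = x ∨ u = y := by
  have k : ∀ {x y u v}, Cq (sv E Q) [x, y] → Cq (sv E Q) [u, v] → x * y ≠ ev f w0 * (u * v) := fun c d e => by
    have := np2 M (cqD M c).tail
    rw [e, np3 M (cqD M d)] at this
    exact absurd this (by decide)
  refine M.u2 _ _ _ _ (cqD M c).tail (cqD M d).tail ?_
  rcases h.two _ _ c a with i | i <;> rcases h.two _ _ d b with j | j
  exacts [i.symm.trans j, absurd (i.symm.trans j) (k c d), absurd (j.symm.trans i) (k d c),
    mul_left_cancel (i.symm.trans j)]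

theorem fix (m : ∀ x, Commute (ee f x) t) {p : ℕ} (hp : p ∈ syn) : α (ee f p) = ee f p := by
  have st : ∀ p ∈ syn1, α (ee f p) = ee f p ∨ Cq (sv E Q) [α (ee f p), ee f p] ∧ α (ee f p) * ee f p ∈ X :=
    fun p hp => by
      obtain ⟨r, hr, rfl, -⟩ := rl_av p hp 1 (by decide +kernel)
      obtain ⟨a, b, c⟩ := rl_ok r hr
      exact h.step M e (es := r.2.map (ee f)) (e_cq M a (List.forall_mem_cons.2 ⟨hp, b⟩)) (by rw [e_prod M, c])
        (by simpa using ⟨m _, fun x _ => m x⟩)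
  rcases List.mem_cons.1 hp with rfl | hp
  · rw [e1, e.base]
  refine (st p hp).elim id fun ⟨c, d⟩ => ?_
  obtain ⟨q, hq, u⟩ : ∃ q ∈ syn, ∀ s ∈ syn1, ee f s = α (ee f p) → s = q := by
    by_cases k : ∃ s ∈ syn1, ee f s = α (ee f p)
    · obtain ⟨s, hs, k⟩ := k
      have hs' := List.mem_cons_of_mem 1 hs
      exact ⟨s, hs', fun t ht e => e_inj M (syn_lt _ (List.mem_cons_of_mem 1 ht)) (syn_lt _ hs') (e.trans k.symm)⟩
    · exact ⟨1, by decide +kernel, fun s hs e => absurd ⟨s, hs, e⟩ k⟩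
  obtain ⟨r, hr, rfl, n⟩ := rl_av p hp q hq
  obtain ⟨a, b, k⟩ := rl_ok r hr
  have fx : ∀ s ∈ r.2, α (ee f s) = ee f s := fun s hs => (st s (b s hs)).elim id fun ⟨c', d'⟩ => by
    rcases h.uq M c c'.swap d ((c'.2.2 (α (ee f s)) (by simp) (ee f s) (by simp)).eq ▸ d') with i | i
    · exact absurd (u s (b s hs) i ▸ hs) n
    · exact absurd (e_inj M (syn_lt _ (List.mem_cons_of_mem 1 (b s hs))) (syn_lt _ (List.mem_cons_of_mem 1 hp)) i ▸ hs)
        (List.nodup_cons.1 a).1
  rw [← k]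
  generalize r.2 = l at fx
  induction l with
  | nil => exact e.one
  | cons s l ih => rw [List.foldr_cons, ex M, e.mul (e_a M _) (e_a M _), fx s (by simp), ih fun x hx => fx x (by simp [hx])]

end WX

namespace Fm

variable (M : M22 D E f) (h : Fm S0 (ev f w0) F ρ)
include M h

theorem sm0 [Finite G] (p : Pr S0 F F') {r : ℕ} {k : G} (hk : k ∈ F.K) (e : F'.z = ρ (ee f r) * k)
    (i : F'.π F.z ∈ S0) : F'.Sm := by
  by_contra n
  obtain ⟨y, hy, c, ⟨m, ym⟩, n⟩ := p.big i n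
  obtain ⟨α, a1, a2⟩ := h.act c
  have ct : ∀ {g}, Commute (ev f w0) g → (Commute F'.z (ρ g) ↔ Commute g (ee f r)) := fun {g} cg => by
    rw [← h.commute_iff cg (e_a M r), e]
    refine ⟨fun a => ?_, fun a => a.symm.mul_left (h.cK cg hk).symm⟩
    simpa using (a.mul_left (h.cK cg hk).symm.inv_left).symm
  have zz : ∀ {s u}, Commute (ev f w0) s → s * s = 1 → s ≠ 1 → s ≠ ev f w0 → u ∈ F.K → ρ s * u ∈ F'.K →
      orderOf (ρ s * u) = 2 → ee f r = s ∨ ee f r = ev f w0 * s := fun {s u} cs ss n1 n2 hu m o => by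
    rcases cenZ M cs ss n1 n2 (t := ee f r) fun g cg b => (ct cg).1 (p.fe.te m o (by
      rwa [commute_iff_conj'.1 (((h.commute_iff cg cs).2 b).mul_right (h.cK cg hu))])) with a | a | a
    · exact absurd (by simpa [e, a, h.one] using hk) p.tK
    · exact absurd (by rw [e, a, h.base]; exact mul_mem h.fr.zK hk) p.tK
    · exact a
  let X : Subgroup K :=
    { carrier := {x | Commute (ev f w0) x ∧ ρ x ∈ F'.K}
      one_mem' := ⟨Commute.one_right _, h.one ▸ one_mem _⟩
      mul_mem' := fun a b => ⟨a.1.mul_right b.1, h.mul a.1 b.1 ▸ mul_mem a.2 b.2⟩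
      inv_mem' := fun a => ⟨a.1.inv_right, h.inv a.1 ▸ inv_mem a.2⟩ }
  have cy := p.fe.cK hy
  have w : WX (ev f w0) (sv E Q) (ee f r) X α := ⟨fun g cg b x hx => ⟨(emb_cj cg).comm hx.1, h.conj cg hx.1 ▸
      p.fe.nK ((ct cg).2 b) hx.2⟩, fun d hd b => (ct (a1.comm (cT M hd))).1 (a2 d (cT M hd) ▸
      (cy.mul_right ((ct (cT M hd)).2 b)).mul_right cy.inv_right), fun d hd b => ?_, fun x y c m => ?_⟩
  · obtain ⟨x, -, u, hu, rfl⟩ := h.cv M c fun q hq => commute_iff_conj'.2 (by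
      rw [← a2 _ (e_a M q), w.fix M a1 (fun x => Fu.e_cm M x r) hq])
    have cu := h.cK (e_a M x) hu
    have sq : ρ (ee f x) * u * (ρ (ee f x) * u) = u * u := by
      rw [← pow_two, cu.mul_pow, pow_two, pow_two, h.e_sq M, one_mul]
    have s1 : ρ (ee f x) * u * (ρ (ee f x) * u) = 1 := eq_one_of_odd (p.odd (sq ▸ mul_mem hu hu) (mul_mem hy hy))
      (k := m) (by rw [← pow_two, ← pow_mul, mul_comm, pow_mul, ym, one_pow])
    have o := ord2 s1 fun a => n (.inl a)
    have b := zz (e_a M x) (Fu.e_sq M x) (fun a => p.no_inv (by simpa [a, h.one] using hu) hy o)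
      (fun a => p.no_inv (by rw [a, h.base]; exact mul_mem h.fr.zK hu) hy o) hu hy o
    have mk : ρ (ee f x) * u * F'.z ∈ F.K := by
      rw [e, mul_assoc, ← mul_assoc u, ← (h.cK (e_a M r) hu).eq, ← mul_assoc, ← mul_assoc]
      refine mul_mem (mul_mem ?_ hu) hk
      rcases b with b | b <;> rw [b]
      · rw [h.e_sq M]; exact one_mem _
      · rw [h.amul (e_a M x), (h.comm (e_a M x)).eq, ← mul_assoc, h.e_sq M, one_mul]; exact h.fr.zK
    refine n (.inr ?_)
    by_contra ne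
    refine p.no_inv mk (mul_mem hy p.fe.zK) (ord2 ?_ fun a => ne ?_)
    · rw [← pow_two, cy.symm.mul_pow, pow_two, pow_two, s1, p.fe.zz, one_mul]
    · rw [eq_inv_of_mul_eq_one_left a, p.fe.zi]
  · have cd := cT M hd
    refine ⟨(a1.comm cd).mul_right cd, ?_⟩
    have := mul_mem hy (p.fe.nK ((ct cd).2 b) (inv_mem hy))
    rwa [← mul_assoc, ← mul_assoc, ← a2 d cd, ← h.inv cd, M.hY.inv hd, ← h.mul (a1.comm cd) cd] at this
  · have c1 := c.2.1 x (by simp)
    have c2 := c.2.1 y (by simp)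
    have ss : x * y * (x * y) = 1 := by
      rw [← pow_two, sq_mul_of_commute (M.hY.sq _ c1) (M.hY.sq _ c2) (c.2.2 x (by simp) y (by simp))]
    have n1 : x * y ≠ 1 := fun a => (by simpa using c.1 : x ≠ y) (tt_eq_of_mul_eq_one M.grp.1 (TD M c2) a)
    refine zz m.1 ss n1 (fun a => ?_) (one_mem _) (by simpa using m.2) (ord2 ?_ ?_)
    · have := np2 M (cqD M c).tail
      rw [a, show (perp D (ev f w0)).ncard = 694 by
        simpa using StdZ.Fi.np M (Cq.one M.base_mem) (m := 1) rfl (by decide) (by decide)] at this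
      exact absurd this (by decide)
    · rw [mul_one, ← h.mul m.1 m.1, ss, h.one]
    · rw [mul_one, ← h.one]
      exact fun a => n1 (h.inj m.1 (Commute.one_right _) a)

theorem sm [Finite G] [IsSimpleGroup G] (hG : ¬ IsMulCommutative G) (s : S0.Normal) : F.Sm := by
  obtain ⟨F1, p, i⟩ := h.inner M hG
  obtain ⟨g, cg, r, hr, k, hk, e⟩ := h.form M p i
  obtain ⟨F2, q, j1, j2⟩ := (h.tw cg).both M s p hr hk e
  obtain ⟨u, rfl⟩ := p.cj
  obtain ⟨g, cg, r, -, k, hk, e⟩ := (h.cj u).form M q j1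
  exact p.sm_iff.1 (q.sm_iff.1 (((h.cj u).tw cg).sm0 M q hk e j2))

end Fm

end CF.Fu
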