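import Cfsg.Agent.Fu.A5

/-! The conjugates of the central involution of `2.U6(2)` in its centraliser. -/

set_option autoImplicit false
set_option maxRecDepth 100000

namespace CF.Fu

open Cfsg Subgroup CF.Comp CF.Fisch CF.Fisch.F22 CF.StdZ CF.Loc

variable {K G S : Type*} [Group K] [Group G] [Group S] {S0 : Subgroup S} {F F' : Dt G S} {ρ : K → G}
  {D : Set K} {E : Dom (Cj K) 3510} {f : ℕ → K}

theorem kcj (k : ∀ x ∈ F.K, x = 1 ∨ x = F.z) (u : G) : ∀ x ∈ (F.cj u).K, x = 1 ∨ x = (F.cj u).z := by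
  rintro _ ⟨x, hx, rfl⟩
  rcases k x hx with rfl | rfl
  exacts [.inl (by simp), .inr rfl]

namespace Fm

variable (M : M22 D E f) (h : Fm S0 (ev f w0) F ρ) (k : ∀ x ∈ F.K, x = 1 ∨ x = F.z)
include M h k

omit M in
theorem In_le {x : G} (c : Commute F.z x) (m : F.π x ∈ S0) : x ∈ F.L := by
  obtain ⟨l, hl, y, hy, rfl⟩ := h.fr.dec c m
  rcases k y hy with rfl | rfl
  exacts [by simpa using hl, mul_mem hl h.fr.zL]

omit k in
theorem out' {c : G} (hc : Commute F.z c) (cc : c * c ∈ F.K) (n : F.π c ∉ S0) : ∃ l, Commute F.z l ∧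
    ∀ x, l * c * l⁻¹ * ρ (ee f x) * (l * c * l⁻¹)⁻¹ = ρ (ee f (ln M0 x)) := by
  obtain ⟨g, cg, e⟩ := h.out M hc cc n
  refine ⟨_, (h.comm cg).inv_right, fun x => conj_inj.1 (?_ : ρ g * _ * (ρ g)⁻¹ = ρ g * _ * (ρ g)⁻¹)⟩
  rw [← h.conj cg (e_a M _), ← e x, h.conj cg (e_a M _)]
  group

theorem nsq2 {x j : G} (cx : Commute F.z x) (cj : Commute F.z j) (xx : x * x = 1) (jj : j * j = 1) :
    x * j * (x * j) ≠ F.z := fun e => by
  have c := cx.mul_right cj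
  by_cases i : F.π (x * j) ∈ S0
  · obtain ⟨y, cy, b⟩ := h.surj (h.In_le k c i)
    exact nsq M cy (h.inj (cy.mul_right cy) (Commute.refl _) (by rw [h.mul cy cy, b, e, h.base]))
  obtain ⟨d, cd, dd, n⟩ : ∃ d, Commute F.z d ∧ d * d = 1 ∧ F.π d ∉ S0 := by
    by_cases a : F.π x ∈ S0
    · exact ⟨j, cj, jj, fun b => i (h.fr.mul cx cj ▸ mul_mem a b)⟩
    · exact ⟨x, cx, xx, a⟩
  obtain ⟨l, cl, a⟩ := h.out' M c (e ▸ h.fr.zK) i
  obtain ⟨m, cm, b⟩ := h.out' M cd (dd ▸ one_mem _) n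
  have e1 : l * (x * j) * l⁻¹ * (l * (x * j) * l⁻¹) = F.z := by rw [conj_mul, e, conj_of_comm cl]
  have e2 : m * d * m⁻¹ * (m * d * m⁻¹) = 1 := by rw [conj_mul, dd]; simp
  have c1 := (cl.mul_right c).mul_right cl.inv_right
  have c2 := (cm.mul_right cd).mul_right cm.inv_right
  generalize l * (x * j) * l⁻¹ = s at a e1 c1
  generalize m * d * m⁻¹ = t at b e2 c2
  obtain ⟨y, hy, u, hu, v⟩ := h.cv M (c1.inv_right.mul_right c2) fun p _ => commute_iff_conj'.2 (by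
    rw [cj_aux2, b, ← a]; group)
  obtain ⟨y, hy, v⟩ : ∃ y < 1024, s⁻¹ * t = ρ (ee f y) := by
    rcases k u hu with rfl | rfl
    · exact ⟨y, hy, by simpa using v⟩
    · exact ⟨y ^^^ 1, Nat.xor_lt_two_pow (n := 10) hy (by decide), by rw [v, h.ex M, Fu.e1, h.base]⟩
  obtain rfl : t = s * ρ (ee f y) := by rw [← v]; group
  refine m0_ne y hy (e_inj M (Nat.xor_lt_two_pow (n := 10) hy (ln_lt m0_lt y)) (by decide)
    (h.inj (e_a M _) (e_a M _) ?_))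
  rw [Fu.e1, h.base, Nat.xor_comm, h.ex M, ← a, ← h.fr.zi, eq_inv_iff_mul_eq_one, mul_assoc,
    ← (h.comm (e_a M y)).eq, ← e1, ← e2]
  group

theorem nD {v x j : G} (cx : Commute v x) (cj : Commute v j) (xx : x * x = 1) (jj : j * j = 1)
    (e : x * j * (x * j) = v) : ¬ IsConj F.z v := fun m => by
  obtain ⟨u, rfl⟩ := isConj_iff.1 m
  exact (h.cj u).nsq2 M (kcj k u) cx cj xx jj e

omit M k in
theorem icj {g y : K} (cg : Commute (ev f w0) g) (cy : Commute (ev f w0) y) :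
    IsConj F.z (ρ (g * y * g⁻¹)) ↔ IsConj F.z (ρ y) := by
  rw [h.conj cg cy]
  exact conj_mem_iff (cj_conjugatesOf F.z)

theorem n367 {r : ℕ} (hr : r ∈ [3, 6, 7]) {g : K} (cg : Commute (ev f w0) g) :
    ¬ IsConj F.z (ρ (g * ee f r * g⁻¹)) := by
  obtain ⟨x, j, cx, cj, xx, jj, a, b, e⟩ := sqr M hr
  rw [h.icj cg (e_a M r)]
  exact h.nD M k ((h.commute_iff (e_a M r) cx).2 a) ((h.commute_iff (e_a M r) cj).2 b)
    (by rw [← h.mul cx cx, xx, h.one]) (by rw [← h.mul cj cj, jj, h.one])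
    (by rw [← h.mul cx cj, ← h.mul (cx.mul_right cj) (cx.mul_right cj), e])

theorem n1 {x : K} (hx : x ∈ sv E Q) : ¬ IsConj F.z (F.z * ρ x) := by
  obtain ⟨g, cg, rfl⟩ := RR.t1 M _ (eT M (p := 2) (by decide +kernel)) x hx
  rw [← h.amul (cT M hx), a_cj M cg]
  exact h.n367 M k (by decide) cg

theorem n2 {x y : K} (c : Cq (sv E Q) [x, y]) : ¬ IsConj F.z (ρ (x * y)) ∧ ¬ IsConj F.z (F.z * ρ (x * y)) := by
  obtain ⟨g, cg, rfl, rfl⟩ := RR.t2 M _ _ _ _ (e_cq M (l := [2, 4]) (by decide) (by decide +kernel)) c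
  rw [conj_mul, ← Fu.ex M, ← h.amul ((emb_cj cg).comm (e_a M _)), a_cj M cg]
  exact ⟨h.n367 M k (by decide) cg, h.n367 M k (by decide) cg⟩

theorem cls {v : G} (hv : v ∈ F.L) (m : IsConj F.z v) (n : v ≠ F.z) : ∃ y, Commute (ev f w0) y ∧ ρ y = v ∧
    (y ∈ sv E Q ∨ IsConj F.z (ρ (ee f 14)) ∧ IsConj F.z (F.z * v)) := by
  obtain ⟨y, cy, rfl⟩ := h.surj hv
  obtain ⟨u, a⟩ := isConj_iff.1 m
  obtain ⟨g, cg, r, hr, rfl⟩ := cls7 M cy (h.inj (cy.mul_right cy) (Commute.one_right _) (by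
    rw [h.mul cy cy, ← a, conj_mul, h.fr.zz, h.one]; simp))
  refine ⟨_, cy, rfl, ?_⟩
  by_cases b : r ∈ [3, 6, 7]
  · exact absurd m (h.n367 M k b cg)
  have : r = 0 ∨ r = 1 ∨ r = 2 ∨ r = 14 := by clear * - hr b; revert r; decide
  rcases this with rfl | rfl | rfl | rfl
  · exact absurd (conj_eq_one_iff.1 (a.trans (by simp [e0, h.one]))) h.fr.z1
  · exact absurd (by rw [e1, commute_iff_conj'.1 cg.symm, h.base]) n
  · exact .inl (nT M cg (eT M (by decide +kernel)))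
  · have b := (h.icj cg (e_a M 14)).1 m
    refine .inr ⟨b, ?_⟩
    rwa [← h.amul cy, a_cj M cg, ← show Fu.act [4, 3, 4, 4, 0, 1] 14 = 1 ^^^ 14 by decide +kernel, ← gg_act M,
      h.icj cg ((emb_cj (gg_a M _)).comm (e_a M _)), h.icj (gg_a M _) (e_a M _)]

theorem inD {v : G} (m : IsConj F.z v) (c : Commute F.z v) : F.π v ∈ S0 := by
  by_contra n
  obtain ⟨u, rfl⟩ := isConj_iff.1 m
  have h2 := h.cj u
  have k2 := kcj k u
  obtain ⟨g, cg, e⟩ := h.out M c (h2.fr.zz ▸ one_mem _) n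
  have h1 := h.tw cg
  have y := fun y => h1.yl M e (y := y)
  have key : ∀ y ∈ Yl, (F.cj u).π (ρ (g * ee f y * g⁻¹)) ∈ S0 → ∃ w ∈ sv E Q,
      u * ρ w * u⁻¹ = u * F.z * u⁻¹ * ρ (g * ee f y * g⁻¹) := fun p hp i => by
    obtain ⟨a, b, d, s, t, q, e⟩ := y p hp
    obtain ⟨w, -, e', j | ⟨-, j⟩⟩ := h2.cls M k2 (mul_mem h2.fr.zL (h2.In_le k2 a i)) b (by simpa using d)
    · exact ⟨w, j, e'⟩
    · rw [← mul_assoc, h2.fr.zz, one_mul, ← e] at j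
      exact absurd (m.trans j) (h1.n2 M k q).1
  obtain ⟨p, hp, q, hq, ne, i, j⟩ := two_in (I := fun y => (F.cj u).π (ρ (g * ee f y * g⁻¹)) ∈ S0)
    fun p hp q hq => by simpa only [h1.ex M] using h2.ix M (y p hp).1 (y q hq).1
  obtain ⟨s, hs, a⟩ := key p hp i
  obtain ⟨t, ht, b⟩ := key q hq j
  have lt : ∀ y ∈ Yl, y < 1024 := by decide +kernel
  refine (h2.n2 M k2 (Cq.two hs ht (fun e => ne (e_inj M (lt p hp) (lt q hq) (h1.inj (e_a M p) (e_a M q) ?_)))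
    ((h2.commute_iff (cT M hs) (cT M ht)).1 ?_))).2 ?_
  · exact mul_left_cancel (a.symm.trans (e ▸ b))
  · rw [a, b]
    exact ((Commute.refl _).mul_right (y q hq).1).mul_left ((y p hp).1.symm.mul_right (h1.e_cm M p q))
  · rw [h2.mul (cT M hs) (cT M ht), a, b, (y p hp).1.eq, mul_assoc (ρ _), ← mul_assoc (u * F.z * u⁻¹) _ (ρ _),
      show u * F.z * u⁻¹ * (u * F.z * u⁻¹) = 1 from h2.fr.zz, one_mul, ← h1.ex M]
    exact (y _ ((yl_ok p hp).2.2.2 q hq ne)).2.1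

theorem cases {v : G} (hv : v ∈ Dd (conjugatesOf F.z) F.z) : ∃ y, Commute (ev f w0) y ∧ ρ y = v ∧
    (y ∈ sv E Q ∨ IsConj F.z (ρ (ee f 14)) ∧ IsConj F.z (F.z * v)) :=
  h.cls M k (h.In_le k hv.2.2 (h.inD M k hv.1 hv.2.2)) hv.1 hv.2.1

theorem n14 : ¬ IsConj F.z (ρ (ee f 14)) := fun p0 => by
  have ne : ∀ {x y}, x < 1024 → y < 1024 → x ≠ y → ρ (ee f x) ≠ ρ (ee f y) := fun a b c e =>
    c (e_inj M a b (h.inj (e_a M _) (e_a M _) e))
  have two : ∀ {p q}, [p, q].Nodup → (∀ x ∈ [p, q], x ∈ syn1) → ¬ IsConj F.z (ρ (ee f (p ^^^ q))) := fun a b =>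
    Fu.ex M _ _ ▸ (h.n2 M k (e_cq M a b)).1
  have z : F.z = ρ (ee f 1) := by rw [e1, h.base]
  have t := eT M (p := 2) (by decide +kernel)
  by_cases p1 : IsConj F.z (ρ (ee f 2))
  · refine move_two p1 (fun x hx y hy e c n1 n2 => ?_) F.z ⟨IsConj.refl _, z ▸ ne (by decide) (by decide) (by decide),
      (h.comm (e_a M 2)).symm⟩ _ ⟨p0, ne (by decide) (by decide) (by decide), h.e_cm M 2 14⟩
      (z ▸ ne (by decide) (by decide) (by decide)) (h.comm (e_a M 14)) ((h.comm (e_a M 2)).eq ▸ h.n1 M k t)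
      (h.ex M 2 14 ▸ two (p := 4) (q := 8) (by decide) (by decide +kernel)) ?_
    · obtain ⟨x, cx, rfl, a | a⟩ := h.cases M k hx
      · obtain ⟨y, cy, rfl, b | b⟩ := h.cases M k hy
        · exact h.mul cx cy ▸ (h.n2 M k (Cq.two a b (fun e' => e (congrArg ρ e')) ((h.commute_iff cx cy).1 c))).1
        · exact absurd b.2 n2
      · exact absurd a.2 n1
    · rw [← h.amul (e_a M _), ← e1, ← Fu.ex M, ← show Fu.act [4, 3, 4, 4, 0, 1] 14 = 1 ^^^ 14 by decide +kernel,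
        ← gg_act M]
      exact (h.icj (gg_a M _) (e_a M _)).2 p0
  · refine two (p := 8) (q := 16) (by decide) (by decide +kernel) (h.ex M 14 22 ▸ move_pure p0 (fun x hx => ?_) _
      ⟨?_, ne (by decide) (by decide) (by decide), h.e_cm M 14 22⟩)
    · obtain ⟨x, cx, rfl, a | a⟩ := h.cases M k hx
      · obtain ⟨g, cg, rfl⟩ := RR.t1 M _ t x a
        exact absurd ((h.icj cg (e_a M _)).1 hx.1) p1
      · exact a.2
    · rw [← show Fu.act [2, 0, 1] 14 = 22 by decide +kernel, ← gg_act M]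
      exact (h.icj (gg_a M _) (e_a M _)).2 p0

variable [Finite G] [IsSimpleGroup G] (hG : ¬ IsMulCommutative G)
include hG

theorem dd : Dd (conjugatesOf F.z) F.z = ρ '' sv E Q := by
  have a : ∀ v ∈ Dd (conjugatesOf F.z) F.z, v ∈ ρ '' sv E Q := fun v hv =>
    let ⟨y, _, e, b⟩ := h.cases M k hv; ⟨y, b.resolve_right fun c => h.n14 M k c.1, e⟩
  obtain ⟨F', p⟩ := h.fr.exists_pr' hG
  obtain ⟨x, hx, e⟩ := a _ ⟨p.conj, p.ne, p.cm⟩
  refine Set.Subset.antisymm a ?_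
  rintro _ ⟨y, hy, rfl⟩
  refine ⟨?_, fun e => (M.dd.ge hy).2.1 (h.inj (cT M hy) (Commute.refl _) (e.trans h.base.symm)), h.comm (cT M hy)⟩
  obtain ⟨g, c, rfl⟩ := RR.t1 M x hx y hy
  exact (h.icj c (cT M hx)).2 (e ▸ p.conj)

theorem qiso {v : G} (hv : v ∈ conjugatesOf F.z) : ∃ τ, QIso (sv E Q) (Dd (conjugatesOf F.z) v) τ := by
  obtain ⟨g, rfl⟩ := isConj_iff.1 hv
  have b : ∀ x ∈ sv E Q, ∀ y ∈ sv E Q, ρ (x * y * x) = ρ x * ρ y * ρ x := fun x hx y hy => by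
    rw [h.mul ((cT M hx).mul_right (cT M hy)) (cT M hx), h.mul (cT M hx) (cT M hy)]
  have q : QIso (sv E Q) (Dd (conjugatesOf F.z) F.z) ρ := by
    rw [h.dd M k hG]
    refine ⟨M.hY, ⟨?_, ?_⟩, Set.InjOn.bijOn_image fun x hx y hy => h.inj (cT M hx) (cT M hy), b⟩
    · rintro _ ⟨x, hx, rfl⟩
      rw [← h.mul (cT M hx) (cT M hx), M.hY.sq x hx, h.one]
    · rintro _ ⟨x, hx, rfl⟩ _ ⟨y, hy, rfl⟩
      exact ⟨_, M.hY.cl x hx y hy, b x hx y hy⟩
  exact ⟨_, q.trans (QIso.of_conj q.qy g fun _ => conj_mem_Dd (cj_conjugatesOf _))⟩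

end Fm

end CF.Fu
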