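import Cfsg.Agent.Fu.A6
import Cfsg.Agent.Fisch.R24.Fl
import Cfsg.Agent.Dbl.PG1

/-! A simple group with a standard subgroup `2.U6(2)` is `Fi22`. -/

set_option autoImplicit false
set_option maxRecDepth 100000

namespace CF.Fu

open Cfsg Subgroup CF.Comp CF.Fisch CF.Fisch.F22 CF.StdZ CF.Loc

variable {K G S : Type*} [Group K] [Group G] [Group S] {S0 : Subgroup S} {F F' : Dt G S} {ρ : K → G}
  {D : Set K} {E : Dom (Cj K) 3510} {f : ℕ → K}

theorem cmp_of {X T : Set K} {n : ℕ} (hX : LocM n X T) {C : Set G} (sq : ∀ x ∈ C, x * x = 1)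
    (cj : ∀ g : G, ∀ x ∈ C, g * x * g⁻¹ ∈ C) (loc : ∀ v ∈ C, ∃ τ, QIso X (Dd C v) τ) : Cmp C := by
  refine ⟨sq, cj, fun u hu v hv w hw ⟨b, hb, c1, c2⟩ c => ?_⟩
  by_cases uv : Commute u v
  · exact ⟨v, hv, uv, c⟩
  by_cases e : w = v
  · exact ⟨b, hb, c1, e ▸ c2⟩
  obtain ⟨τ, q⟩ := loc v hv
  obtain ⟨ρ, h1, h2, -⟩ := hX.norm.chart hX.sub q (good_commute (c := u)
    ⟨⟨b, ⟨hb, fun e => uv (e ▸ c1), c2.symm⟩, c1⟩, fun e he hc => by
      obtain ⟨σ, q'⟩ := loc e he.1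
      rw [Dd_comm he.2.2]
      exact q'.lp hX.lp v ⟨hv, he.2.1.symm, he.2.2.symm⟩ u ⟨hu, fun e' => uv (e' ▸ he.2.2.symm), hc.symm⟩
        fun e => uv e.symm⟩)
  obtain ⟨x, hx, rfl⟩ := h1.surj ⟨hw, e, c⟩
  obtain ⟨y, hy, c3⟩ := hX.cov x hx
  exact ⟨_, (h1.maps (hX.sub hy)).1, h2 y hy, ((h1.commute_iff hx (hX.sub hy)).2 c3).symm⟩

/-- an automorphism of order two fixes a transposition -/
theorem fixD (M : M22 D E f) {θ : MulAut K} (h : θ * θ = 1) : ∃ y ∈ D, θ y = y := by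
  by_cases n : θ ∈ (MulAut.conj : K →* MulAut K).range
  swap
  · exact (StdZ.Fi.outer M h n).1
  obtain ⟨w, rfl⟩ := n
  by_cases e : w = 1
  · exact ⟨_, M.base_mem, by simp [e]⟩
  obtain ⟨l, a, rfl, c, -⟩ := (RN.nice M).inv w trivial (inn_inj M.center (by rw [map_mul, h, map_one])) e
  obtain ⟨x, hx⟩ := List.exists_mem_of_length_pos c
  exact ⟨x, a.2.1 x hx, commute_iff_conj'.1 (a.comm_prod hx)⟩

namespace Fm

variable (M : M22 D E f) (h : Fm S0 (ev f w0) F ρ) (k : ∀ x ∈ F.K, x = 1 ∨ x = F.z)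
include M h

theorem leL {H : Subgroup G} (m : ∀ y ∈ sv E Q, ρ y ∈ H) : F.L ≤ H := fun l hl => by
  obtain ⟨x, cx, rfl⟩ := h.surj hl
  have hx := M.md.mem.2 cx
  clear cx hl
  induction hx using closure_induction with
  | mem x hx => exact m x hx
  | one => exact h.one ▸ one_mem _
  | mul x y hx hy a b => exact h.mul (M.md.mem.1 hx) (M.md.mem.1 hy) ▸ mul_mem a b
  | inv x hx a => exact h.inv (M.md.mem.1 hx) ▸ inv_mem a

variable [Finite G] [IsSimpleGroup G] (hG : ¬ IsMulCommutative G)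
include k hG

theorem cmp : Cmp (conjugatesOf F.z) :=
  cmp_of (RR.locM M) (fun x hx => by
    obtain ⟨g, rfl⟩ := isConj_iff.1 hx
    exact (h.fr.cj g).zz) (cj_conjugatesOf _) fun _ => h.qiso M k hG

theorem phi : ∃ φ : K →* G, Function.Injective φ ∧ φ '' D = Bk (conjugatesOf F.z) F.z := by
  have C := h.cmp M k hG
  have hz : F.z ∈ conjugatesOf F.z := IsConj.refl _
  have L := RR.locM M
  have dd : ∀ x ∈ Bk (conjugatesOf F.z) F.z, Dd (Bk (conjugatesOf F.z) F.z) x = Dd (conjugatesOf F.z) x :=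
    fun x hx => Set.ext fun y => ⟨fun m => ⟨m.1.1, m.2⟩, fun m => ⟨C.bk_step hz hx m.1 m.2.2, m.2⟩⟩
  have hB : Blk (sv E Q) (Bk (conjugatesOf F.z) F.z) := ⟨⟨fun x hx => C.sq x hx.1, fun x hx y hy => by
    simpa only [C.inv hx.1] using C.St_conj hz (C.bk_le hz hx) hy⟩, fun m => h.fr.z1 (isConj_one_left.1 m.1),
    fun x hx => dd x hx ▸ h.qiso M k hG hx.1, fun u hu v hv =>
      let ⟨c, hc, c1, c2⟩ := C.trans hu.1 hz hv.1 hu.2.symm hv.2; ⟨c, C.bk_step hz hu hc c1, c1, c2⟩⟩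
  have m := C.bk_self hz
  have e := (dd _ m).trans (h.dd M k hG)
  generalize Bk (conjugatesOf F.z) F.z = B at hB m e
  have := L.simple
  have P := hB.prim L.tt L.trans L.wide m
  obtain ⟨σ, r⟩ := hB.dd_sub ⟨_, subset_closure m⟩
  obtain ⟨τ, q⟩ := hB.loc _ m
  obtain ⟨φ, hφ⟩ := M.ext P (eq_bot_iff.2 fun z hz => by
    rw [mem_center_iff] at hz
    rcases k z (h.fr.memK.2 fun l hl => mem_centralizer_singleton_iff.1 (h.leL M (H := centralizer {z.1})
      (fun y hy => mem_centralizer_singleton_iff.2 (congrArg Subtype.val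
        (hz ⟨_, subset_closure (e.ge ⟨y, hy, rfl⟩).1⟩))) hl)) with e | e
    · exact Subtype.ext e
    · obtain ⟨c, -, hc⟩ := ttc_exists_not_commute P.cls P.prim.2.1 (d := ⟨_, subset_closure m⟩) m
      exact absurd ((show z = ⟨F.z, _⟩ from Subtype.ext e) ▸ (hz c).symm) hc) (d := ⟨_, subset_closure m⟩) m
    (q.trans r)
  refine ⟨(closure B).subtype.comp φ.toMonoidHom, Subtype.val_injective.comp φ.injective, ?_⟩
  rw [MonoidHom.coe_comp, Set.image_comp, MulEquiv.coe_toMonoidHom, hφ]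
  exact Set.Subset.antisymm (by rintro _ ⟨x, hx, rfl⟩; exact hx) fun x hx => ⟨⟨x, subset_closure hx⟩, hx, rfl⟩

theorem all_in {s : G} (cs : Commute F.z s) : F.π s ∈ S0 := by
  classical
  by_contra ns
  have C := h.cmp M k hG
  have hz : F.z ∈ conjugatesOf F.z := IsConj.refl _
  obtain ⟨φ, ij, e⟩ := h.phi M k hG
  have gen : φ.range = closure (Bk (conjugatesOf F.z) F.z) := by
    rw [← e, ← MonoidHom.map_closure, M.grp.2.2, MonoidHom.range_eq_map]
  have nrm : ∀ g ∈ C.St hz, ∀ x ∈ φ.range, g * x * g⁻¹ ∈ φ.range := fun g hg x hx => by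
    rw [gen] at hx ⊢
    exact (closure_le ((Subgroup.closure _).comap (MulAut.conj g).toMonoidHom)).2
      (fun y hy => subset_closure (C.St_conj hz hg hy)) hx
  obtain ⟨d, hd, a⟩ := e.ge (C.bk_self hz)
  have le : F.L ≤ φ.range := h.leL M fun y hy => by
    have m := (h.dd M k hG).ge ⟨y, hy, rfl⟩
    exact gen ▸ subset_closure (C.bk_step hz (C.bk_self hz) m.1 m.2.2)
  have fr : ∀ g ∈ C.St hz, ∃ n ∈ φ.range, ∃ c, Commute F.z c ∧ g = n * c := fun g hg => by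
    obtain ⟨y, hy, b⟩ := e.ge (C.St_conj hz hg (C.bk_self hz))
    obtain ⟨x, rfl⟩ := ttc_trans M.primTT.cls hd hy
    refine ⟨_, ⟨x, rfl⟩, (φ x)⁻¹ * g, comm_of_conj ?_, by group⟩
    rw [cj_aux2, ← b, ← a, map_mul, map_mul, map_inv]
    group
  let ε : C.St hz →* ℤˣ := MonoidHom.mk' (fun g => if g.1 ∈ φ.range then 1 else -1) fun x y => by
    by_cases a : x.1 ∈ φ.range <;> by_cases b : y.1 ∈ φ.range
    · simp only [coe_mul, mul_mem a b, a, b, if_true, one_mul]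
    · simp only [coe_mul, mul_mem_cancel_left a, a, b, if_true, one_mul]
    · simp only [coe_mul, mul_mem_cancel_right b, a, b, if_true, mul_one]
    obtain ⟨n, hn, c, cc, e1⟩ := fr _ x.2
    obtain ⟨m, hm, c', cc', e2⟩ := fr _ y.2
    have : x.1 * y.1 ∈ φ.range := by
      rw [e1, e2, show n * c * (m * c') = n * (c * m * c⁻¹) * (c * c') by group]
      refine mul_mem (mul_mem hn (nrm _ (C.St_of_commute hz cc.symm) _ hm)) (le (h.In_le k (cc.mul_right cc') ?_))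
      rcases h.ix M cc cc' with i | i | i
      exacts [absurd (e1 ▸ mul_mem hn (le (h.In_le k cc i))) a, absurd (e2 ▸ mul_mem hm (le (h.In_le k cc' i))) b, i]
    simp only [coe_mul, this, a, b, if_true, if_false, neg_mul_neg, one_mul]
  obtain ⟨V, -, v⟩ := CF.Dbl.tt h.fr.zz (C.St_of_commute hz (Commute.refl _)) (fun g hg => by
    have vv := (h.fr.cj g).zz
    change g * F.z * g⁻¹ * (g * F.z * g⁻¹) = 1 at vv
    choose θ b using fun x => nrm _ hg _ ⟨x, rfl⟩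
    have i : ∀ x, θ (θ x) = x := fun x => ij (by rw [b, b, ← cj_aux2, vv]; simp)
    obtain ⟨y, hy, c⟩ := fixD M (θ := ⟨⟨θ, θ, i, i⟩, fun x y => ij (by
      change φ (θ _) = φ (θ _ * θ _)
      rw [map_mul, b, b, b, map_mul, conj_mul])⟩) (MulEquiv.ext i)
    exact (C.bk_step hz (e.le ⟨y, hy, rfl⟩) (C.cj g _ hz) (comm_of_conj ((b y).symm.trans (congrArg φ c)))).2) ε
  have v1 := v Int.units_mul_self s (C.St_of_commute hz cs.symm) cs.symm
  have n : s ∉ φ.range := by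
    rintro ⟨x, rfl⟩
    have : x ∈ closure (Dd D d) := M.clDd hd ▸ mem_centralizer_singleton_iff.2 (ij (by
      rw [map_mul, map_mul, a, cs.eq]))
    refine ns (h.fr.mem ((closure_le (F.L.comap φ)).2 (fun y hy => ?_) this))
    obtain ⟨w, hw, b⟩ := (h.dd M k hG).le ⟨(e.le ⟨y, hy.1, rfl⟩).1, fun b => hy.2.1 (ij (b.trans a.symm)),
      a ▸ hy.2.2.map φ⟩
    exact show φ y ∈ F.L from b ▸ h.mem (cT M hw)
  rw [show ε _ = -1 from if_neg n] at v1
  rcases V.normal_ker.eq_bot_or_eq_top with b | b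
  · exact hG ⟨⟨fun x y => (MonoidHom.ker_eq_bot_iff V).1 b (by rw [map_mul, map_mul, mul_comm])⟩⟩
  · exact absurd (v1.symm.trans (b.ge (mem_top s))) (by decide)

theorem fin : ∃ e : K ≃* G, e '' D = conjugatesOf F.z :=
  have b : Emb (ev f w0) F.z ρ := ⟨h.mul, h.inj, fun c => h.surj (h.In_le k c (h.all_in M k hG c)), h.base⟩
  (b.locD h.fr.oz (fun ⟨_, c, e⟩ => nsq M c e) M.hY M.md.gen M.md.cz (h.dd M k hG)).recog (RR.locM M) (RN.nice M)
    fun h1 h2 _ ha _ q => M.ext h1 h2 ha q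

end Fm

/-- a simple group with a standard subgroup `2.U6(2)` -/
theorem _root_.CF.Ft.u62 {G : Type*} [Group G] [Finite G] [IsSimpleGroup G] (hG : ¬ IsMulCommutative G)
    (hbal : ∀ t : G, orderOf t = 2 → centralizerPPrimeCore 2 t = ⊥) {L : Subgroup G} (hL : IsStandardSubgroup L)
    (hZ : Nat.card (center L) = 2) {E : Type*} [Field E] [Fintype E] (hE : Fintype.card E = 4)
    (e : L ⧸ center L ≃* PSU 6 E 2) : Spor.IsoFi22 G := by
  obtain ⟨_, M⟩ := F22.model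
  obtain ⟨F, ρ, h, -⟩ := exists_fm M hL hZ hE e
  have s := h.sm M hG inn_normal
  obtain ⟨e, -⟩ := h.fin M (fun x => h.fr.K_le (h.fr.bal s (hbal _ h.fr.oz)) s (k := x)) hG
  exact ⟨e.symm⟩

end CF.Fu
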